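import Groth.Agent.AlgSpUnivClosed.Existence

/-!
Lifting spectra of valuation rings along flat morphisms of algebraic spaces.
-/

set_option autoImplicit false
set_option backward.isDefEq.respectTransparency.types false

universe u

open CategoryTheory CategoryTheory.Limits AlgebraicGeometry Opposite AlgSp Topology IsLocalRing

namespace Groth.Agent.AlgSpUnivClosed

open Groth.Agent.AlgSpLib

variable {S : Scheme.{u}}

theorem exists_valuation_lift_of_flat {X Y : Sp S} (hX : IsAlgSpace X) (hY : IsAlgSpace Y) {f : X ⟶ Y}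
    (hf : LocP @Flat f) (A : Type u) [CommRing A] [IsDomain A] [ValuationRing A]
    (str : Spec (.of A) ⟶ S) (b : (yon S).obj (Over.mk str) ⟶ Y)
    (hb : Points.ofPt b (closedPoint A) ∈ Set.range (Points.map f)) :
    ∃ (A' : Type u) (_ : CommRing A') (_ : IsDomain A') (_ : ValuationRing A') (φ : A →+* A'),
      Function.Injective φ ∧ IsLocalHom φ ∧
      ∃ l : (yon S).obj (Over.mk (Spec.map (CommRingCat.ofHom φ) ≫ str)) ⟶ X,
        l ≫ f = (yon S).map (Over.homMk (Spec.map (CommRingCat.ofHom φ)) rfl :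
          Over.mk (Spec.map (CommRingCat.ofHom φ) ≫ str) ⟶ Over.mk str) ≫ b := by
  obtain ⟨x, hx⟩ := hb
  obtain ⟨U, V, aU, aV, h, haU, haUs, haV, -, w⟩ := exists_chart hX hY f
  obtain ⟨u₀, rfl⟩ := surjective_ofPt haUs x
  obtain ⟨R, r₁, r₂, sR⟩ := exists_isPullback haV.1 b
  have hv : Points.ofPt aV (h.left u₀) = Points.ofPt b (closedPoint A) := by
    rw [← hx, Points.map_ofPt, w, ofPt_comp]
  obtain ⟨ρ, hρ₁, hρ₂⟩ := (ofPt_eq_iff sR (h.left u₀) (closedPoint A : (Over.mk str).left)).1 hv
  have hr₂ : Etale r₂.left := prop_snd sR haV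
  have hflat : Flat h.left := hf aU aV h haU haV w
  let T : Over S := Over.mk (pullback.fst r₁.left h.left ≫ R.hom)
  let tR : T ⟶ R := Over.homMk (pullback.fst r₁.left h.left) rfl
  let tU : T ⟶ U := Over.homMk (pullback.snd r₁.left h.left) (by
    show pullback.snd r₁.left h.left ≫ U.hom = pullback.fst r₁.left h.left ≫ R.hom
    rw [← Over.w h, ← Over.w r₁, pullback.condition_assoc])
  obtain ⟨t, ht₁, ht₂⟩ := Scheme.Pullback.exists_preimage_pullback (f := r₁.left) (g := h.left) ρ u₀ hρ₁
  let g : T.left ⟶ Spec (CommRingCat.of A) := pullback.fst r₁.left h.left ≫ r₂.left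
  haveI : Flat g := by
    haveI : Flat (pullback.fst r₁.left h.left) := MorphismProperty.pullback_fst _ _ hflat
    haveI : Etale r₂.left := hr₂
    infer_instance
  have hgt : g t = closedPoint A := by
    show r₂.left (pullback.fst r₁.left h.left t) = _
    rw [ht₁, hρ₂]
  let η : Spec (CommRingCat.of A) := (⟨⊥, Ideal.isPrime_bot⟩ : PrimeSpectrum A)
  obtain ⟨t', hspec, hgt'⟩ := Flat.generalizingMap g (a := t) (b := η) (by
    rw [hgt]
    exact (PrimeSpectrum.le_iff_specializes η (closedPoint A)).1 bot_le)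
  obtain ⟨A', _, _, _, _, _, β, hβ, hβt⟩ := exists_valuation_over (𝟙 T.left) t' hspec
  let φ : A →+* A' := (Spec.preimage (β ≫ g : Spec (CommRingCat.of A') ⟶ Spec (CommRingCat.of A))).hom
  have hφ : Spec.map (CommRingCat.ofHom φ) = β ≫ g := Spec.map_preimage _
  have hinj : Function.Injective φ := by
    rw [injective_iff_map_eq_zero]
    intro y hy
    let k : (Spec (T.left.residueField t')) := closedPoint (T.left.residueField t')
    have hk : Spec.map (CommRingCat.ofHom ((algebraMap A' (T.left.residueField t')).comp φ)) k = η := by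
      rw [CommRingCat.ofHom_comp]
      erw [Spec.map_comp]
      rw [hφ, ← Category.assoc, ← hβ, Category.comp_id, Scheme.Hom.comp_apply]
      rw [Scheme.fromSpecResidueField_apply]
      exact hgt'
    have hy' : y ∈ η.asIdeal := by
      rw [← hk]
      show (algebraMap A' (T.left.residueField t')).comp φ y ∈ k.asIdeal
      simp [hy]
    exact hy'
  have hloc : IsLocalHom φ := by
    rw [isLocalHom_iff_comap_closedPoint]
    show Spec.map (CommRingCat.ofHom φ) (closedPoint A') = closedPoint A
    rw [hφ, Scheme.Hom.comp_apply, hβt, hgt]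
  let βT : Over.mk (Spec.map (CommRingCat.ofHom φ) ≫ str) ⟶ T := Over.homMk β (by
    show β ≫ pullback.fst r₁.left h.left ≫ R.hom = Spec.map (CommRingCat.ofHom φ) ≫ str
    rw [hφ, ← Over.w r₂]
    simp only [g, Category.assoc]
    rfl)
  have hTc : tU ≫ h = tR ≫ r₁ := Over.OverMorphism.ext pullback.condition.symm
  refine ⟨A', inferInstance, inferInstance, inferInstance, φ, hinj, hloc, (yon S).map (βT ≫ tU) ≫ aU, ?_⟩
  rw [Category.assoc, w, ← Category.assoc, ← Functor.map_comp, Category.assoc, hTc, Functor.map_comp, Functor.map_comp,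
    Category.assoc, Category.assoc, sR.w, ← Category.assoc, ← Category.assoc, ← Functor.map_comp, ← Functor.map_comp]
  congr 2
  exact Over.OverMorphism.ext hφ.symm

end Groth.Agent.AlgSpUnivClosed
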