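import Groth.Agent.AlgSpUnivClosed.SepLift
import Groth.Agent.AlgSpLib.FpqcLocalRep
import Groth.Prelude.Def_AlgSpMor5

/-!
A valuative square of a separated morphism with a lift after an extension has a lift.
-/

set_option autoImplicit false
set_option backward.isDefEq.respectTransparency.types false

universe u

open CategoryTheory CategoryTheory.Limits AlgebraicGeometry Opposite AlgSp Topology TensorProduct

namespace Groth.Agent.AlgSpUnivClosed

open Groth.Agent.AlgSpLib

variable {S : Scheme.{u}}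

theorem hasLift_of_domExt {X Y : Sp S} (hX : IsAlgSpace X) (hY : IsAlgSpace Y) {f : X ⟶ Y}
    (hf : IsSeparatedMor f) (sq : ValSq f) (e : sq.DomExt) (he : e.HasLift) : sq.HasLift := by
  obtain ⟨l, hl₁, hl₂⟩ := he
  have sP := IsPullback.of_hasPullback f sq.bot
  have hP : IsAlgSpace (pullback f sq.bot) := isAlgSpace_of_isPullback sP hX (IsAlgSpace.yon_obj _) hY
  have hπ : IsSeparatedMor (pullback.snd f sq.bot) := repWith_diagonal_baseChange sP hf
  letI : Algebra sq.A e.A' := e.φ.toAlgebra
  letI : Algebra sq.A e.K' := ((algebraMap e.A' e.K').comp e.φ).toAlgebra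
  haveI : IsScalarTower sq.A e.A' e.K' := IsScalarTower.of_algebraMap_eq' rfl
  have hφK : ∀ x : sq.A, algebraMap sq.A e.K' x = e.ψ (algebraMap sq.A sq.K x) := fun x => RingHom.congr_fun e.comm x
  have hinjK : Function.Injective (algebraMap sq.A e.K') := fun x y h => by
    rw [hφK, hφK] at h
    exact IsFractionRing.injective sq.A sq.K (e.ψ.injective h)
  have hinjA : Function.Injective (algebraMap sq.A e.A') := fun x y h =>
    hinjK (congrArg (algebraMap e.A' e.K') h)
  haveI : FaithfulSMul sq.A e.A' := (faithfulSMul_iff_algebraMap_injective _ _).2 hinjA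
  haveI : FaithfulSMul sq.A e.K' := (faithfulSMul_iff_algebraMap_injective _ _).2 hinjK
  haveI : Module.Flat sq.A e.A' :=
    Module.Flat.flat_iff_torsion_eq_bot_of_isBezout.2 (Submodule.isTorsionFree_iff_torsion_eq_bot.1 inferInstance)
  haveI : Module.Flat sq.A e.K' :=
    Module.Flat.flat_iff_torsion_eq_bot_of_isBezout.2 (Submodule.isTorsionFree_iff_torsion_eq_bot.1 inferInstance)
  haveI : IsLocalHom (algebraMap sq.A e.A') := e.isLocalHom
  haveI : Module.FaithfullyFlat sq.A e.A' := Module.FaithfullyFlat.of_flat_of_isLocalHom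
  let κ : e.A' →ₐ[sq.A] e.K' := IsScalarTower.toAlgHom sq.A e.A' e.K'
  let ψ : sq.K →ₐ[sq.A] e.K' := { e.ψ with commutes' := fun x => (hφK x).symm }
  let p : (yon S).obj (algObj sq.str sq.K) ⟶ pullback f sq.bot := pullback.lift sq.top ((yon S).map sq.j) sq.comm
  let l' : (yon S).obj (algObj sq.str e.A') ⟶ pullback f sq.bot :=
    pullback.lift l ((yon S).map (toBase sq.str e.A')) hl₂
  let c : algObj sq.str e.K' ⟶ e.ptK' := Over.homMk (𝟙 _) (by
    show 𝟙 _ ≫ Spec.map _ ≫ Spec.map _ ≫ sq.str = Spec.map _ ≫ sq.str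
    rw [Category.id_comp, ← Spec.map_comp_assoc]
    rfl)
  have h₁ : algMap sq.str e.A' κ =
      c ≫ (Over.homMk (Spec.map (CommRingCat.ofHom (algebraMap e.A' e.K'))) rfl : e.ptK' ⟶ e.ptA') :=
    Over.OverMorphism.ext (Category.id_comp _).symm
  have hlp : (yon S).map (algMap sq.str e.A' κ) ≫ l' = (yon S).map (algMap sq.str sq.K ψ) ≫ p := by
    apply pullback.hom_ext
    · rw [Category.assoc, Category.assoc, pullback.lift_fst, pullback.lift_fst]
      refine ((congrArg (fun t => (yon S).map t ≫ l) h₁).trans ((yon S).map_comp_assoc c _ l)).trans ?_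
      refine (congrArg ((yon S).map c ≫ ·) hl₁).trans ?_
      rw [← Category.assoc, ← Functor.map_comp]
      congr 2
    · rw [Category.assoc, Category.assoc, pullback.lift_snd, pullback.lift_snd, ← Functor.map_comp, ← Functor.map_comp]
      exact congrArg (yon S).map ((algMap_toBase sq.str e.A' κ).trans (algMap_toBase sq.str sq.K ψ).symm)
  obtain ⟨s, hs, hsp⟩ := exists_section_of_extension sq.str κ (IsFractionRing.injective e.A' e.K') ψ hP
    (pullback.snd f sq.bot) hπ p (pullback.lift_snd _ _ _) l' (pullback.lift_snd _ _ _) hlp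
  refine ⟨s ≫ pullback.fst f sq.bot, ?_, ?_⟩
  · rw [← Category.assoc]
    exact (congrArg (· ≫ pullback.fst f sq.bot) hsp).trans (pullback.lift_fst _ _ _)
  · rw [Category.assoc, pullback.condition, ← Category.assoc, hs, Category.id_comp]

end Groth.Agent.AlgSpUnivClosed

namespace Groth.Agent.AlgSpUnivClosed

/-- The trivial extension. -/
theorem hasLiftExt_of_hasLift {S : Scheme.{u}} {X Y : Sp S} {f : X ⟶ Y} (sq : ValSq f) (h : sq.HasLift) :
    sq.HasLiftExt := by
  obtain ⟨l, h₁, h₂⟩ := h
  let e : sq.DomExt :=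
    { A' := sq.A, K' := sq.K, φ := RingHom.id _, ψ := RingHom.id _,
      comm := (RingHom.comp_id _).trans (RingHom.id_comp _).symm, isLocalHom := ⟨fun _ h => h⟩ }
  refine ⟨e, (yon S).map (Over.homMk (Spec.map (CommRingCat.ofHom (RingHom.id sq.A))) rfl : e.ptA' ⟶ sq.ptA) ≫ l,
    ?_, ?_⟩
  · rw [← h₁, ← Category.assoc, ← Category.assoc, ← Functor.map_comp, ← Functor.map_comp]
    congr 2
    refine Over.OverMorphism.ext ?_
    show Spec.map _ ≫ Spec.map _ = Spec.map _ ≫ Spec.map _
    rw [← Spec.map_comp, ← Spec.map_comp]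
    rfl
  · rw [Category.assoc, h₂]

end Groth.Agent.AlgSpUnivClosed
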