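import Groth.Agent.AlgSpUnivClosed.Transfer
import Groth.Agent.AlgSpLib.Compact
import Groth.Prelude.Def_AlgSpMor5

/-!
The existence part of the valuative criterion implies universal closedness for quasi-compact morphisms.
-/

set_option autoImplicit false
set_option backward.isDefEq.respectTransparency.types false

universe u

open CategoryTheory CategoryTheory.Limits AlgebraicGeometry Opposite AlgSp Topology

namespace Groth.Agent.AlgSpUnivClosed

open Groth.Agent.AlgSpLib

variable {S : Scheme.{u}} {X Y : Sp S}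

/-- Universal closedness is tested on schemes mapping to the target. -/
theorem isUnivClosedMor_of_schemes {f : X ⟶ Y} (scheme : ∀ {T : Over S} (g : (yon S).obj T ⟶ Y), SndClosed f g) :
    IsUnivClosedMor f := by
  intro Z Z' hZ g fst snd sq C hC
  obtain ⟨T, b, hb, hbs⟩ := hZ.atlas
  let m := sq.lift (pullback.fst f (b ≫ g)) (pullback.snd f (b ≫ g) ≫ b) (by rw [Category.assoc, pullback.condition])
  have sm : IsPullback m (pullback.snd f (b ≫ g)) snd b := by
    refine IsPullback.of_right ?_ (sq.lift_snd _ _ _) sq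
    rw [sq.lift_fst]
    exact IsPullback.of_hasPullback f (b ≫ g)
  rw [← (isQuotientMap_ofPt hb hbs).isClosed_preimage]
  have e : Points.ofPt b ⁻¹' (Points.map snd '' C) = img f (b ≫ g) (Points.map m ⁻¹' C) := by
    ext t
    constructor
    · rintro ⟨c, hc, hc'⟩
      obtain ⟨z, hz, hz'⟩ := exists_point_of_isPullback sm c (Points.ofPt (𝟙 _) t)
        (by rw [hc', Points.map_ofPt, Category.id_comp])
      exact ⟨z, by rw [Set.mem_preimage, hz]; exact hc, hz'⟩
    · rintro ⟨z, hz, hz'⟩
      refine ⟨_, hz, ?_⟩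
      rw [← Points.map_comp, sm.w, Points.map_comp, hz', Points.map_ofPt, Category.id_comp]
  rw [e]
  exact scheme _ _ (hC.preimage (Points.continuous_map m))

/-- For a morphism of affine schemes, an image of a closed set is closed once it is stable under specialisation. -/
theorem isClosed_image_of_stable {A B : Scheme.{u}} [IsAffine A] [IsAffine B] (q : A ⟶ B) {Z : Set A}
    (hZ : IsClosed Z) (h : StableUnderSpecialization (q '' Z)) : IsClosed (q '' Z) := by
  let φ := Spec.preimage (A.isoSpec.inv ≫ q ≫ B.isoSpec.hom)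
  have hφ : ∀ x, Spec.map φ x = B.isoSpec.hom (q (A.isoSpec.inv x)) := fun x => by
    rw [Spec.map_preimage]
    rfl
  have hb := (Scheme.Hom.homeomorph B.isoSpec.hom)
  have e : Spec.map φ '' (A.isoSpec.inv ⁻¹' Z) = B.isoSpec.hom '' (q '' Z) := by
    ext y
    constructor
    · rintro ⟨x, hx, rfl⟩
      exact ⟨_, ⟨_, hx, rfl⟩, (hφ x).symm⟩
    · rintro ⟨_, ⟨a, ha, rfl⟩, rfl⟩
      have e : A.isoSpec.inv (A.isoSpec.hom a) = a := by
        rw [← Scheme.Hom.comp_apply, Iso.hom_inv_id]
        rfl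
      exact ⟨A.isoSpec.hom a, by rw [Set.mem_preimage, e]; exact ha, by rw [hφ, e]⟩
  have hcl : IsClosed (Spec.map φ '' (A.isoSpec.inv ⁻¹' Z)) := by
    refine PrimeSpectrum.isClosed_image_of_stableUnderSpecialization φ.hom _ (hZ.preimage A.isoSpec.inv.continuous) ?_
    show StableUnderSpecialization (Spec.map φ '' (A.isoSpec.inv ⁻¹' Z))
    rw [e]
    exact (Scheme.Hom.homeomorph B.isoSpec.hom).isClosedMap.specializingMap.stableUnderSpecialization_image h
  rw [e] at hcl
  exact ((Scheme.Hom.homeomorph B.isoSpec.hom).isClosed_image).1 hcl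

open IsLocalRing in
/-- The existence part of the valuative criterion gives closed projections. -/
theorem sndClosed_of_existVC (hX : IsAlgSpace X) (hY : IsAlgSpace Y) {f : X ⟶ Y} (hqc : IsQuasiCompactMor f)
    (he : ∀ sq : ValSq f, sq.HasLiftExt) {T : Over S} [IsAffine T.left] (g : (yon S).obj T ⟶ Y) :
    SndClosed f g := by
  intro C hC
  have hsP := IsPullback.of_hasPullback f g
  have hqcP : IsQuasiCompactSp (pullback f g) := hqc (IsAlgSpace.yon_obj _)
    ((isQuasiCompactSp_iff_affine (IsAlgSpace.yon_obj _)).2 ⟨T, 𝟙 _, ‹_›, repWith_id _ _, repWith_id _ _⟩) _ _ _ hsP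
  obtain ⟨W, w₁, hW, hw₁, hw₁s⟩ :=
    (isQuasiCompactSp_iff_affine (isAlgSpace_of_isPullback hsP hX (IsAlgSpace.yon_obj _) hY)).1 hqcP
  obtain ⟨q, hq⟩ := (yon S).map_surjective (w₁ ≫ pullback.snd f g)
  haveI : IsAffine W.left := hW
  have key : ∀ x, Points.map (pullback.snd f g) (Points.ofPt w₁ x) = Points.ofPt (𝟙 _) (q.left x) := fun x => by
    rw [Points.map_ofPt, ← hq, ← ofPt_comp, Category.comp_id]
  have himg : img f g C = q.left '' (Points.ofPt w₁ ⁻¹' C) := by
    ext t
    constructor
    · rintro ⟨c, hc, hc'⟩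
      obtain ⟨x, rfl⟩ := surjective_ofPt hw₁s c
      exact ⟨x, hc, ofPt_id_injective ((key x).symm.trans hc')⟩
    · rintro ⟨x, hx, rfl⟩
      exact ⟨_, hx, key x⟩
  rw [himg]
  refine isClosed_image_of_stable _ (hC.preimage (Points.continuous_ofPt w₁)) ?_
  rintro t' s hspec ⟨x, hx, rfl⟩
  let a : T.left.presheaf.stalk s ⟶ W.left.residueField x :=
    T.left.presheaf.stalkSpecializes hspec ≫ q.left.stalkMap x ≫ W.left.residue x
  obtain ⟨A, hA, hA_local⟩ := exists_factor_valuationRing a.hom
  let b : T.left.presheaf.stalk s ⟶ CommRingCat.of A := CommRingCat.ofHom (a.hom.codRestrict A.toSubring hA)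
  let β : Spec (CommRingCat.of A) ⟶ T.left := Spec.map b ≫ T.left.fromSpecStalk s
  have hβ : β (closedPoint A) = s := by
    simp only [β, Scheme.Hom.comp_apply]
    have : Spec.map b (closedPoint A) = closedPoint (T.left.presheaf.stalk s) :=
      comap_closedPoint (S := A) (a.hom.codRestrict A.toSubring hA)
    rw [this, T.left.fromSpecStalk_closedPoint]
  have hw : W.left.fromSpecResidueField x ≫ q.left =
      Spec.map (CommRingCat.ofHom (algebraMap A (W.left.residueField x))) ≫ β := by
    simp only [β]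
    rw [Scheme.fromSpecResidueField, Category.assoc, ← Scheme.SpecMap_stalkMap_fromSpecStalk,
      ← Scheme.SpecMap_stalkSpecializes_fromSpecStalk hspec]
    simp_rw [← Spec.map_comp_assoc]
    rfl
  let bo : Over.mk (β ≫ T.hom) ⟶ T := Over.homMk β rfl
  let xo : Over.mk (Spec.map (CommRingCat.ofHom (algebraMap A (W.left.residueField x))) ≫ β ≫ T.hom) ⟶ W :=
    Over.homMk (W.left.fromSpecResidueField x) (by
      show W.left.fromSpecResidueField x ≫ W.hom = Spec.map _ ≫ β ≫ T.hom
      rw [← Over.w q, reassoc_of% hw])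
  let jo : Over.mk (Spec.map (CommRingCat.ofHom (algebraMap A (W.left.residueField x))) ≫ β ≫ T.hom) ⟶
      Over.mk (β ≫ T.hom) := Over.homMk (Spec.map (CommRingCat.ofHom (algebraMap A (W.left.residueField x)))) rfl
  have hxo : xo ≫ q = jo ≫ bo := Over.OverMorphism.ext hw
  have hcomm : ((yon S).map xo ≫ w₁ ≫ pullback.fst f g) ≫ f = (yon S).map jo ≫ (yon S).map bo ≫ g := by
    rw [← Category.assoc ((yon S).map jo), ← Functor.map_comp, ← hxo, Functor.map_comp, hq]
    simp only [Category.assoc, pullback.condition]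
  let sq : ValSq f :=
    { A := A
      K := W.left.residueField x
      str := β ≫ T.hom
      top := (yon S).map xo ≫ w₁ ≫ pullback.fst f g
      bot := (yon S).map bo ≫ g
      comm := hcomm }
  obtain ⟨e, l, hl₁, hl₂⟩ := he sq
  let φo : e.ptA' ⟶ sq.ptA := Over.homMk (Spec.map (CommRingCat.ofHom e.φ)) rfl
  let jo' : e.ptK' ⟶ e.ptA' := Over.homMk (Spec.map (CommRingCat.ofHom (algebraMap e.A' e.K'))) rfl
  let ψo : e.ptK' ⟶ sq.ptK := Over.homMk (Spec.map (CommRingCat.ofHom e.ψ)) (by
    change Spec.map _ ≫ Spec.map _ ≫ _ = Spec.map _ ≫ Spec.map _ ≫ _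
    rw [← Spec.map_comp_assoc, ← Spec.map_comp_assoc, ← CommRingCat.ofHom_comp,
      ← CommRingCat.ofHom_comp, e.comm])
  have hjφ : jo' ≫ φo = ψo ≫ sq.j := by
    refine Over.OverMorphism.ext ?_
    show Spec.map _ ≫ Spec.map _ = Spec.map _ ≫ Spec.map _
    rw [← Spec.map_comp, ← Spec.map_comp, ← CommRingCat.ofHom_comp, ← CommRingCat.ofHom_comp, e.comm]
  let L : (yon S).obj e.ptA' ⟶ pullback f g := pullback.lift l ((yon S).map (φo ≫ bo))
    (by rw [hl₂, Functor.map_comp, Category.assoc])
  have hL : (yon S).map jo' ≫ L = (yon S).map (ψo ≫ xo) ≫ w₁ := by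
    apply pullback.hom_ext
    · rw [Category.assoc, pullback.lift_fst, hl₁, Functor.map_comp, Category.assoc, Category.assoc]
    · rw [Category.assoc, pullback.lift_snd, Category.assoc, ← hq, ← Functor.map_comp, ← Functor.map_comp]
      congr 1
      rw [Category.assoc, hxo, ← Category.assoc jo', hjφ, Category.assoc]
  let η : (e.ptA').left := jo'.left (closedPoint e.K')
  let κ : (e.ptA').left := closedPoint e.A'
  have hη : Points.ofPt L η ∈ C := by
    show Points.ofPt L (jo'.left _) ∈ C
    rw [← ofPt_comp, hL, ofPt_comp, Over.comp_left, Scheme.Hom.comp_apply]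
    show Points.ofPt w₁ (W.left.fromSpecResidueField x _) ∈ C
    rw [Scheme.fromSpecResidueField_apply]
    exact hx
  have hκ : Points.ofPt L κ ∈ C :=
    ((specializes_closedPoint (R := e.A') η).map (Points.continuous_ofPt L)).mem_closed hC hη
  obtain ⟨y, hy⟩ := surjective_ofPt hw₁s (Points.ofPt L κ)
  refine ⟨y, by rw [Set.mem_preimage, hy]; exact hκ, ofPt_id_injective ?_⟩
  rw [← key, hy, Points.map_ofPt, pullback.lift_snd, ← Category.comp_id ((yon S).map _), ofPt_comp]
  refine congrArg _ ?_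
  show β (Spec.map (CommRingCat.ofHom e.φ) (closedPoint e.A')) = s
  have := e.isLocalHom
  rw [show Spec.map (CommRingCat.ofHom e.φ) (closedPoint e.A') = closedPoint A from comap_closedPoint (S := e.A') e.φ]
  exact hβ

/-- The criterion. -/
theorem isUnivClosedMor_of_existVC (hX : IsAlgSpace X) (hY : IsAlgSpace Y) {f : X ⟶ Y} (hqc : IsQuasiCompactMor f)
    (he : ∀ sq : ValSq f, sq.HasLiftExt) : IsUnivClosedMor f :=
  isUnivClosedMor_of_schemes fun {T} g C hC => by
    rw [← isOpen_compl_iff, isOpen_iff_forall_mem_open]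
    intro s hs
    obtain ⟨U, hU, hsU, -⟩ := exists_isAffineOpen_mem_and_subset (X := T.left) (x := s) (U := ⊤) trivial
    let T' : Over S := Over.mk (U.ι ≫ T.hom)
    let k : T' ⟶ T := Over.homMk U.ι rfl
    haveI : IsAffine T'.left := hU
    have hcl := sndClosed_of_existVC hX hY hqc he ((yon S).map k ≫ g) _
      (hC.preimage (Points.continuous_map (pmap f g _ k rfl)))
    rw [mem_img_pmap rfl C] at hcl
    refine ⟨U.ι '' (k.left ⁻¹' img f g C)ᶜ, ?_, U.ι.isOpenEmbedding.isOpenMap _ hcl.isOpen_compl,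
      ⟨⟨s, hsU⟩, fun h => hs h, rfl⟩⟩
    rintro _ ⟨a, ha, rfl⟩
    exact ha

end Groth.Agent.AlgSpUnivClosed
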