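import Groth.Agent.AlgSpUnivClosed.Affine

/-!
Universal closedness of a quasi-compact morphism of algebraic spaces is detected by affine spaces over a chart.
-/

set_option autoImplicit false
set_option backward.isDefEq.respectTransparency.types false

universe u

open CategoryTheory CategoryTheory.Limits AlgebraicGeometry Opposite AlgSp Topology

namespace Groth.Agent.AlgSpUnivClosed

open Groth.Agent.AlgSpLib

variable {S : Scheme.{u}} {X Y : Sp S}

/-- The affine space over a scheme over `S`, as a scheme over `S`. -/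
noncomputable def affObj (n : ℕ) (V : Over S) : Over S :=
  Over.mk ((𝔸(ULift.{u} (Fin n); V.left) ↘ V.left) ≫ V.hom)

/-- Its structure map. -/
noncomputable def affProj (n : ℕ) (V : Over S) : affObj n V ⟶ V := Over.homMk (𝔸(ULift.{u} (Fin n); V.left) ↘ V.left)

/-- Finite type algebras over an affine piece of the chart. -/
theorem sndClosed_of_finiteType (hX : IsAlgSpace X) (hY : IsAlgSpace Y) {f : X ⟶ Y} {V : Over S}
    {p : (yon S).obj V ⟶ Y} (H : ∀ n : ℕ, SndClosed f ((yon S).map (affProj n V) ≫ p))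
    {R : Type u} [CommRing R] (j : Spec (CommRingCat.of R) ⟶ V.left) [IsPreimmersion j]
    (jo : Over.mk (j ≫ V.hom) ⟶ V) (hjo : jo.left = j)
    (A : Type u) [CommRing A] [Algebra R A] [Algebra.FiniteType R A] :
    SndClosed f ((yon S).map (toBase (j ≫ V.hom) A) ≫ (yon S).map jo ≫ p) := by
  obtain ⟨n, π, hπ⟩ := Algebra.FiniteType.iff_quotient_mvPolynomial''.mp ‹Algebra.FiniteType R A›
  let e : MvPolynomial (ULift.{u} (Fin n)) R →ₐ[R] A :=
    π.comp (MvPolynomial.renameEquiv R Equiv.ulift).toAlgHom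
  have he : Function.Surjective e := hπ.comp (MvPolynomial.renameEquiv R Equiv.ulift).surjective
  let k₀ : Spec (CommRingCat.of A) ⟶ 𝔸(ULift.{u} (Fin n); V.left) :=
    Spec.map (CommRingCat.ofHom e.toRingHom) ≫ (AffineSpace.SpecIso _ (CommRingCat.of R)).inv ≫ AffineSpace.map _ j
  haveI : IsPreimmersion (AffineSpace.map (ULift.{u} (Fin n)) j) :=
    MorphismProperty.of_isPullback (AffineSpace.isPullback_map j).flip inferInstance
  haveI : IsClosedImmersion (Spec.map (CommRingCat.ofHom e.toRingHom)) :=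
    IsClosedImmersion.spec_of_surjective _ he
  haveI : IsPreimmersion k₀ := inferInstance
  have hk : k₀ ≫ 𝔸(ULift.{u} (Fin n); V.left) ↘ V.left = Spec.map (CommRingCat.ofHom (algebraMap R A)) ≫ j := by
    simp only [k₀, Category.assoc, AffineSpace.map_over, AffineSpace.SpecIso_inv_over_assoc,
      ← Spec.map_comp_assoc, ← CommRingCat.ofHom_comp]
    congr 2
    ext r
    exact e.commutes r
  let k : algObj (j ≫ V.hom) A ⟶ affObj n V := Over.homMk k₀ (by
    show k₀ ≫ (_ ↘ V.left) ≫ V.hom = Spec.map _ ≫ j ≫ V.hom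
    rw [reassoc_of% hk])
  haveI : IsPreimmersion k.left := ‹IsPreimmersion k₀›
  refine sndClosed_of_preimmersion hX hY k ?_ (H n)
  rw [← Category.assoc, ← Functor.map_comp, ← Category.assoc ((yon S).map (toBase _ A)), ← Functor.map_comp]
  congr 2
  refine Over.OverMorphism.ext ?_
  show k₀ ≫ (_ ↘ V.left) = Spec.map _ ≫ jo.left
  rw [hjo, hk]

/-- Over a scheme mapping to the chart. -/
theorem sndClosed_of_factor (hX : IsAlgSpace X) (hY : IsAlgSpace Y) {f : X ⟶ Y} (hqc : IsQuasiCompactMor f)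
    {V : Over S} {p : (yon S).obj V ⟶ Y} (H : ∀ n : ℕ, SndClosed f ((yon S).map (affProj n V) ≫ p))
    {T : Over S} (m : T ⟶ V) : SndClosed f ((yon S).map m ≫ p) := by
  intro C hC
  rw [← isOpen_compl_iff, isOpen_iff_forall_mem_open]
  intro s hs
  obtain ⟨_, ⟨U, hU, rfl⟩, hsU, -⟩ :=
    V.left.isBasis_affineOpens.exists_subset_of_mem_open (Set.mem_univ (m.left s)) isOpen_univ
  obtain ⟨_, ⟨O, hO, rfl⟩, hsO, hOU : O ≤ m.left ⁻¹ᵁ U⟩ :=
    T.left.isBasis_affineOpens.exists_subset_of_mem_open (show s ∈ m.left ⁻¹ᵁ U from hsU) (m.left ⁻¹ᵁ U).isOpen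
  let R : Type u := Γ(V.left, U)
  let A : Type u := Γ(T.left, O)
  letI : Algebra R A := (m.left.appLE U O hOU).hom.toAlgebra
  let r : Spec (CommRingCat.of R) ⟶ S := hU.fromSpec ≫ V.hom
  let jo : Over.mk r ⟶ V := Over.homMk hU.fromSpec rfl
  let c := (yon S).map jo ≫ p
  have hfs : Spec.map (CommRingCat.ofHom (algebraMap R A)) ≫ hU.fromSpec = hO.fromSpec ≫ m.left :=
    IsAffineOpen.SpecMap_appLE_fromSpec m.left hU hO hOU
  let i : algObj r A ⟶ T := Over.homMk hO.fromSpec (by
    show hO.fromSpec ≫ T.hom = Spec.map _ ≫ hU.fromSpec ≫ V.hom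
    rw [← Over.w m, ← Category.assoc, ← Category.assoc, hfs])
  have hi : (yon S).map i ≫ (yon S).map m ≫ p = (yon S).map (toBase r A) ≫ c := by
    rw [← Category.assoc, ← Functor.map_comp, ← Category.assoc ((yon S).map (toBase r A)), ← Functor.map_comp]
    congr 2
    exact Over.OverMorphism.ext hfs.symm
  -- an affine chart over the piece
  have hsP := IsPullback.of_hasPullback f c
  have hqcP : IsQuasiCompactSp (pullback f c) := hqc (IsAlgSpace.yon_obj _)
    ((isQuasiCompactSp_iff_affine (IsAlgSpace.yon_obj _)).2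
      ⟨_, 𝟙 _, inferInstanceAs (IsAffine (Spec (CommRingCat.of R))), repWith_id _ _, repWith_id _ _⟩) _ _ _ hsP
  obtain ⟨W, w₁, hW, hw₁, hw₁s⟩ :=
    (isQuasiCompactSp_iff_affine (isAlgSpace_of_isPullback hsP hX (IsAlgSpace.yon_obj _) hY)).1 hqcP
  obtain ⟨q, hq⟩ := (yon S).map_surjective (w₁ ≫ pullback.snd f c)
  haveI : IsAffine W.left := hW
  let φ : CommRingCat.of R ⟶ Γ(W.left, ⊤) := Spec.preimage (W.left.isoSpec.inv ≫ q.left)
  let B : Type u := Γ(W.left, ⊤)
  letI : Algebra R B := φ.hom.toAlgebra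
  have hφ : Spec.map (CommRingCat.ofHom (algebraMap R B)) = W.left.isoSpec.inv ≫ q.left := Spec.map_preimage _
  let eW : algObj r B ⟶ W := Over.homMk W.left.isoSpec.inv (by
    show W.left.isoSpec.inv ≫ W.hom = Spec.map _ ≫ r
    rw [hφ, Category.assoc]
    congr 1
    exact (Over.w q).symm)
  haveI : IsIso eW.left := inferInstanceAs (IsIso W.left.isoSpec.inv)
  have hwc : ((yon S).map eW ≫ w₁) ≫ pullback.snd f c = (yon S).map (toBase r B) := by
    rw [Category.assoc, ← hq, ← Functor.map_comp]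
    congr 1
    exact Over.OverMorphism.ext hφ.symm
  have hA := img_closed_nhd r c ((yon S).map eW ≫ w₁)
    (repWith_yon_comp eW (inferInstance : Etale eW.left) hw₁)
    (repWith_yon_comp eW (inferInstance : Surjective eW.left) hw₁s) hwc (A := A) (fun A₀ hA₀ => by
      haveI : Algebra.FiniteType R A₀ := (Subalgebra.fg_iff_finiteType A₀).mp hA₀
      exact sndClosed_of_finiteType hX hY H hU.fromSpec jo rfl A₀)
  have hcl := hA _ (hC.preimage (Points.continuous_map (pmap f _ _ i hi)))
  rw [mem_img_pmap hi C] at hcl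
  obtain ⟨s', hs'⟩ : s ∈ Set.range hO.fromSpec := hO.range_fromSpec.ge hsO
  refine ⟨hO.fromSpec '' (i.left ⁻¹' img f _ C)ᶜ, ?_, hO.fromSpec.isOpenEmbedding.isOpenMap _ hcl.isOpen_compl,
    ⟨s', fun h => hs (hs' ▸ h), hs'⟩⟩
  rintro _ ⟨a, ha, rfl⟩
  exact ha

/-- The criterion. -/
theorem isUnivClosedMor_of_affineSpace (hX : IsAlgSpace X) (hY : IsAlgSpace Y) {f : X ⟶ Y}
    (hqc : IsQuasiCompactMor f) {V : Over S} {p : (yon S).obj V ⟶ Y} (hp : RepWith @Etale p)
    (hps : RepWith @Surjective p) (H : ∀ n : ℕ, SndClosed f ((yon S).map (affProj n V) ≫ p)) :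
    IsUnivClosedMor f := by
  have scheme : ∀ {T : Over S} (g : (yon S).obj T ⟶ Y), SndClosed f g := fun {T} g C hC => by
    obtain ⟨T', m, k, sq⟩ := exists_isPullback hp.1 g
    have hk : Etale k.left := prop_snd sq hp
    have hks : Surjective k.left := prop_snd sq hps
    have e : (yon S).map k ≫ g = (yon S).map m ≫ p := sq.w.symm
    have hcl := sndClosed_of_factor hX hY hqc H m _ (hC.preimage (Points.continuous_map (pmap f g _ k e)))
    rw [mem_img_pmap e C] at hcl
    exact ((k.left.isOpenMap.isQuotientMap k.left.continuous k.left.surjective).isClosed_preimage).1 hcl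
  intro Z Z' hZ g fst snd sq C hC
  obtain ⟨T, b, hb, hbs⟩ := hZ.atlas
  let m := sq.lift (pullback.fst f (b ≫ g)) (pullback.snd f (b ≫ g) ≫ b) (by rw [Category.assoc, pullback.condition])
  have sm : IsPullback m (pullback.snd f (b ≫ g)) snd b := by
    refine IsPullback.of_right ?_ (sq.lift_snd _ _ _) sq
    rw [sq.lift_fst]
    exact IsPullback.of_hasPullback f (b ≫ g)
  rw [← (isQuotientMap_ofPt hb hbs).isClosed_preimage]
  have e : Points.ofPt b ⁻¹' (Points.map snd '' C) = img f (b ≫ g) (Points.map m ⁻¹' C) := by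
    ext t
    constructor
    · rintro ⟨c, hc, hc'⟩
      obtain ⟨z, hz, hz'⟩ := exists_point_of_isPullback sm c (Points.ofPt (𝟙 _) t)
        (by rw [hc', Points.map_ofPt, Category.id_comp])
      exact ⟨z, by rw [Set.mem_preimage, hz]; exact hc, hz'⟩
    · rintro ⟨z, hz, hz'⟩
      refine ⟨_, hz, ?_⟩
      rw [← Points.map_comp, sm.w, Points.map_comp, hz', Points.map_ofPt, Category.id_comp]
  rw [e]
  exact scheme _ _ (hC.preimage (Points.continuous_map m))

end Groth.Agent.AlgSpUnivClosed
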