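import Groth.Agent.AlgSpUnivClosed.SepDescend
import Groth.Agent.AlgSpLib.LocP

/-!
A lift over a faithfully flat extension of a valuation ring descends, for a separated target.
-/

set_option autoImplicit false
set_option backward.isDefEq.respectTransparency.types false

universe u

open CategoryTheory CategoryTheory.Limits AlgebraicGeometry Opposite AlgSp Topology TensorProduct

namespace Groth.Agent.AlgSpUnivClosed

open Groth.Agent.AlgSpLib

variable {S : Scheme.{u}} {R : Type u} [CommRing R] (r : Spec (CommRingCat.of R) ⟶ S)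

instance isAffine_algObj (D : Type u) [CommRing D] [Algebra R D] : IsAffine (algObj r D).left :=
  inferInstanceAs (IsAffine (Spec _))

theorem algMap_comp {D D' D'' : Type u} [CommRing D] [Algebra R D] [CommRing D'] [Algebra R D'] [CommRing D'']
    [Algebra R D''] (θ : D →ₐ[R] D') (η : D' →ₐ[R] D'') :
    algMap r D (η.comp θ) = algMap r D' η ≫ algMap r D θ := by
  refine Over.OverMorphism.ext ?_
  show Spec.map _ = Spec.map _ ≫ Spec.map _
  rw [← Spec.map_comp, ← CommRingCat.ofHom_comp]
  rfl

theorem algMap_injective {D D' : Type u} [CommRing D] [Algebra R D] [CommRing D'] [Algebra R D']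
    {θ η : D →ₐ[R] D'} (h : algMap r D θ = algMap r D η) : θ = η :=
  AlgHom.coe_ringHom_injective (congrArg CommRingCat.Hom.hom (Spec.map_injective (congrArg (fun t => t.left) h)))

theorem exists_algHom_of_hom {D D' : Type u} [CommRing D] [Algebra R D] [CommRing D'] [Algebra R D']
    (g : algObj r D' ⟶ algObj r D) (hg : g ≫ toBase r D = toBase r D') : ∃ θ : D →ₐ[R] D', g = algMap r D θ := by
  let ψ : CommRingCat.of D ⟶ CommRingCat.of D' := Spec.preimage g.left
  have hψ : Spec.map ψ = g.left := Spec.map_preimage _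
  have hcomp : CommRingCat.ofHom (algebraMap R D) ≫ ψ = CommRingCat.ofHom (algebraMap R D') := by
    apply Spec.map_injective
    rw [Spec.map_comp, hψ]
    exact congrArg (fun t => t.left) hg
  refine ⟨{ ψ.hom with commutes' := fun a => RingHom.congr_fun (congrArg CommRingCat.Hom.hom hcomp) a }, ?_⟩
  exact Over.OverMorphism.ext hψ.symm

section

variable {K A' K' : Type u} [Field K] [Algebra R K] [CommRing A'] [Algebra R A'] [Field K'] [Algebra R K']
  {P : Sp S} (π : P ⟶ (yon S).obj (Over.mk r))

/-- The two pullbacks of the lift agree. -/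
theorem lift_pullbacks_eq [IsFractionRing R K] [Module.Flat R A'] [Module.Flat R K'] (hπ : IsSeparatedMor π)
    (κ : A' →ₐ[R] K') (hκ : Function.Injective κ) (ψ : K →ₐ[R] K')
    (p : (yon S).obj (algObj r K) ⟶ P) (l : (yon S).obj (algObj r A') ⟶ P)
    (hl : l ≫ π = (yon S).map (toBase r A'))
    (hlp : (yon S).map (algMap r A' κ) ≫ l = (yon S).map (algMap r K ψ) ≫ p) :
    (yon S).map (algMap r A' (D' := A' ⊗[R] A') Algebra.TensorProduct.includeLeft) ≫ l =
      (yon S).map (algMap r A' (D' := A' ⊗[R] A') Algebra.TensorProduct.includeRight) ≫ l := by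
  have hl' : ∀ {D : Type u} [CommRing D] [Algebra R D] (θ : A' →ₐ[R] D),
      ((yon S).map (algMap r A' θ) ≫ l) ≫ π = (yon S).map (toBase r D) := fun θ => by
    rw [Category.assoc, hl, ← Functor.map_comp, algMap_toBase]
  let θ : A' ⊗[R] A' →ₐ[R] K' ⊗[R] K' := Algebra.TensorProduct.map κ κ
  have hθ : Function.Injective θ := by
    have e : θ.toLinearMap = (κ.toLinearMap.rTensor K').comp (κ.toLinearMap.lTensor A') := by
      ext a b
      simp [θ]
    intro x y h
    have h' : θ.toLinearMap x = θ.toLinearMap y := h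
    rw [e, LinearMap.comp_apply, LinearMap.comp_apply] at h'
    exact Module.Flat.lTensor_preserves_injective_linearMap κ.toLinearMap hκ
      (Module.Flat.rTensor_preserves_injective_linearMap κ.toLinearMap hκ h')
  refine eq_of_appTop_injective hπ (T := algObj r (A' ⊗[R] A')) (algMap r (A' ⊗[R] A') θ)
    (appTop_injective_algMap r θ hθ) ((hl' _).trans (hl' _).symm) ?_
  have e₁ : θ.comp Algebra.TensorProduct.includeLeft =
      (Algebra.TensorProduct.includeLeft : K' →ₐ[R] K' ⊗[R] K').comp κ := by
    ext a; simp [θ]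
  have e₂ : θ.comp Algebra.TensorProduct.includeRight =
      (Algebra.TensorProduct.includeRight : K' →ₐ[R] K' ⊗[R] K').comp κ := by
    ext a; simp [θ]
  have e₃ : (Algebra.TensorProduct.includeLeft : K' →ₐ[R] K' ⊗[R] K').comp ψ =
      (Algebra.TensorProduct.includeRight : K' →ₐ[R] K' ⊗[R] K').comp ψ :=
    AlgHom.coe_ringHom_injective (IsLocalization.ringHom_ext (nonZeroDivisors R) (by
      ext x
      simp only [RingHom.coe_comp, Function.comp_apply, RingHom.coe_coe, AlgHom.commutes]))
  rw [← Category.assoc, ← Category.assoc, ← Functor.map_comp, ← Functor.map_comp, ← algMap_comp, ← algMap_comp,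
    e₁, e₂, algMap_comp, algMap_comp, Functor.map_comp, Functor.map_comp, Category.assoc, Category.assoc, hlp,
    ← Category.assoc, ← Category.assoc, ← Functor.map_comp, ← Functor.map_comp, ← algMap_comp, ← algMap_comp, e₃]

/-- The closed subscheme of the product attached to the pullback of a chart. -/
theorem exists_closed_model (hπ : IsSeparatedMor π) (l : (yon S).obj (algObj r A') ⟶ P)
    (hl : l ≫ π = (yon S).map (toBase r A')) {B₀ : Type u} [CommRing B₀] [Algebra R B₀]
    {b : (yon S).obj (algObj r B₀) ⟶ P} (hbπ : b ≫ π = (yon S).map (toBase r B₀)) {W : Over S}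
    {fW : W ⟶ algObj r B₀} {gW : W ⟶ algObj r A'}
    (sW : IsPullback ((yon S).map fW) ((yon S).map gW) b l) :
    ∃ (C : Type u) (_ : CommRing C) (_ : Algebra R C) (πC : B₀ ⊗[R] A' →ₐ[R] C) (eC : algObj r C ≅ W),
      Function.Surjective πC ∧ eC.hom ≫ fW = algMap r B₀ (πC.comp Algebra.TensorProduct.includeLeft) ∧
      eC.hom ≫ gW = algMap r A' (πC.comp Algebra.TensorProduct.includeRight) := by
  have hl' : ∀ {D : Type u} [CommRing D] [Algebra R D] (θ : A' →ₐ[R] D),
      ((yon S).map (algMap r A' θ) ≫ l) ≫ π = (yon S).map (toBase r D) := fun θ => by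
    rw [Category.assoc, hl, ← Functor.map_comp, algMap_toBase]
  let iL := algMap r B₀ (Algebra.TensorProduct.includeLeft : B₀ →ₐ[R] B₀ ⊗[R] A')
  let iR := algMap r A' (Algebra.TensorProduct.includeRight : A' →ₐ[R] B₀ ⊗[R] A')
  have sT := yon_isPullback (isPullback_algObj r A' B₀)
  obtain ⟨j, hjL, hjR⟩ := exists_lift sT ((yon S).map fW) gW (by
    rw [← hbπ, ← hl, ← Category.assoc, sW.w, Category.assoc])
  have hjR' : (yon S).map j ≫ (yon S).map iR = (yon S).map gW := by rw [← Functor.map_comp, hjR]
  have : IsClosedImmersion j.left := by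
    have wLR : ((yon S).map iL ≫ b) ≫ π = ((yon S).map iR ≫ l) ≫ π := by
      rw [hl' _, Category.assoc, hbπ, ← Functor.map_comp, algMap_toBase]
    refine hπ.2 (pullback.lift ((yon S).map iL ≫ b) ((yon S).map iR ≫ l) wLR) ((yon S).map fW ≫ b) j
      (IsPullback.of_isLimit' ⟨?_⟩ (PullbackCone.IsLimit.mk _
        (fun s => sW.lift (s.snd ≫ (yon S).map iL) (s.snd ≫ (yon S).map iR) ?_) (fun s => ?_) (fun s => ?_)
        (fun s m h₁ h₂ => ?_)))
    · apply pullback.hom_ext
      · simp only [Category.assoc, pullback.diagonal_fst, Category.comp_id, pullback.lift_fst]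
        exact ((Category.assoc _ _ _).symm.trans (congrArg (· ≫ b) hjL)).symm
      · simp only [Category.assoc, pullback.diagonal_snd, Category.comp_id, pullback.lift_snd]
        exact sW.w.trans ((Category.assoc _ _ _).symm.trans (congrArg (· ≫ l) hjR')).symm
    · have h₁ := congrArg (· ≫ pullback.fst π π) s.condition
      have h₂ := congrArg (· ≫ pullback.snd π π) s.condition
      simp only [Category.assoc, pullback.diagonal_fst, pullback.diagonal_snd, Category.comp_id, pullback.lift_fst,
        pullback.lift_snd] at h₁ h₂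
      rw [Category.assoc, Category.assoc, ← h₁, h₂]
    · have h₁ := congrArg (· ≫ pullback.fst π π) s.condition
      simp only [Category.assoc, pullback.diagonal_fst, Category.comp_id, pullback.lift_fst] at h₁
      exact ((Category.assoc _ _ _).symm.trans
        ((congrArg (· ≫ b) (sW.lift_fst _ _ _)).trans (Category.assoc _ _ _))).trans h₁.symm
    · apply sT.hom_ext
      · rw [Category.assoc, hjL, sW.lift_fst]
      · rw [Category.assoc, hjR', sW.lift_snd]
    · apply sW.hom_ext
      · rw [sW.lift_fst, ← h₂, Category.assoc, hjL]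
      · rw [sW.lift_snd, ← h₂, Category.assoc, hjR']
  obtain ⟨I, eI, hI⟩ : ∃ (I : Ideal (B₀ ⊗[R] A')) (e : W.left ≅ Spec (CommRingCat.of ((B₀ ⊗[R] A') ⧸ I))),
      j.left = e.hom ≫ Spec.map (CommRingCat.ofHom (Ideal.Quotient.mk I)) :=
    IsClosedImmersion.Spec_iff.1 ‹IsClosedImmersion j.left›
  let C : Type u := (B₀ ⊗[R] A') ⧸ I
  let πC : B₀ ⊗[R] A' →ₐ[R] C := Ideal.Quotient.mkₐ R I
  have hj' : eI.inv ≫ j.left = Spec.map (CommRingCat.ofHom (Ideal.Quotient.mk I)) := (Iso.inv_comp_eq _).2 hI
  let eC : algObj r C ⟶ W := Over.homMk eI.inv (by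
    refine (congrArg (eI.inv ≫ ·) (Over.w j).symm).trans ((Category.assoc _ _ _).symm.trans
      ((congrArg (· ≫ (algObj r (B₀ ⊗[R] A')).hom) hj').trans ?_))
    show Spec.map _ ≫ Spec.map _ ≫ r = Spec.map _ ≫ r
    rw [← Spec.map_comp_assoc]
    rfl)
  haveI : IsIso eC.left := inferInstanceAs (IsIso eI.inv)
  have heCj : eC ≫ j = algMap r (B₀ ⊗[R] A') πC := Over.OverMorphism.ext hj'
  let eC' : W ⟶ algObj r C := Over.homMk eI.hom (by
    show eI.hom ≫ Spec.map _ ≫ r = W.hom
    rw [← cancel_epi eI.inv, eI.inv_hom_id_assoc]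
    exact (Over.w eC).symm)
  refine ⟨C, inferInstance, inferInstance, πC, ⟨eC, eC', Over.OverMorphism.ext eI.inv_hom_id,
    Over.OverMorphism.ext eI.hom_inv_id⟩, Ideal.Quotient.mkₐ_surjective R I, ?_, ?_⟩
  · rw [algMap_comp, ← heCj, Category.assoc]
    exact congrArg (eC ≫ ·) ((yon S).map_injective (by rw [Functor.map_comp, hjL]))
  · rw [algMap_comp, ← heCj, Category.assoc, hjR]

/-- The subalgebra of a descent datum gives back the algebra. -/
theorem bijective_lift_of_datum [Module.FaithfullyFlat R A'] {B C : Type u} [CommRing B] [Algebra R B]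
    [CommRing C] [Algebra R C] [Algebra A' C] [IsScalarTower R A' C] (ιB : B →ₐ[R] C)
    (hι : Function.Injective ιB) (hsurj : ∀ c : C, ∃ x : A' ⊗[R] B,
      Algebra.TensorProduct.lift (Algebra.ofId A' C) ιB (fun _ _ => .all _ _) x = c)
    (θ : C →ₐ[R] C ⊗[R] A') (hθA : ∀ x : A', θ (algebraMap A' C x) = 1 ⊗ₜ x)
    (hθB : ∀ y : B, θ (ιB y) = ιB y ⊗ₜ 1) :
    Function.Bijective (Algebra.TensorProduct.lift (Algebra.ofId A' C) ιB (fun _ _ => .all _ _)) := by
  refine ⟨fun u v h => ?_, hsurj⟩
  have key : ∀ z : A' ⊗[R] B, θ (Algebra.TensorProduct.lift (Algebra.ofId A' C) ιB (fun _ _ => .all _ _) z) =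
      TensorProduct.comm R A' C (ιB.toLinearMap.lTensor A' z) := by
    intro z
    induction z using TensorProduct.induction_on with
    | zero => simp
    | tmul x y =>
      rw [Algebra.TensorProduct.lift_tmul, map_mul, Algebra.ofId_apply, hθA, hθB]
      simp
    | add x y hx hy => rw [map_add, map_add, hx, hy, map_add, map_add]
  have h' := congrArg θ h
  rw [key, key] at h'
  exact Module.Flat.lTensor_preserves_injective_linearMap ιB.toLinearMap hι ((TensorProduct.comm R A' C).injective h')

/-- Descent of the algebra. -/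
theorem exists_descended_algebra [Module.FaithfullyFlat R A'] {B₀ C : Type u} [CommRing B₀] [Algebra R B₀]
    [CommRing C] [Algebra R C] (πC : B₀ ⊗[R] A' →ₐ[R] C) (hπC : Function.Surjective πC)
    (het : (πC.comp Algebra.TensorProduct.includeRight).toRingHom.Etale)
    (θ : C →ₐ[R] C ⊗[R] A')
    (hθA : θ.comp (πC.comp Algebra.TensorProduct.includeRight) = Algebra.TensorProduct.includeRight)
    (hθB : θ.comp (πC.comp Algebra.TensorProduct.includeLeft) =
      (Algebra.TensorProduct.includeLeft : C →ₐ[R] C ⊗[R] A').comp (πC.comp Algebra.TensorProduct.includeLeft)) :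
    ∃ (B : Type u) (_ : CommRing B) (_ : Algebra R B) (mB : B₀ →ₐ[R] B) (ιB : B →ₐ[R] C) (ε : C →ₐ[R] B ⊗[R] A'),
      Algebra.Etale R B ∧ ιB.comp mB = πC.comp Algebra.TensorProduct.includeLeft ∧
      ε.comp (πC.comp Algebra.TensorProduct.includeLeft) =
        (Algebra.TensorProduct.includeLeft : B →ₐ[R] B ⊗[R] A').comp mB ∧
      ε.comp (πC.comp Algebra.TensorProduct.includeRight) = Algebra.TensorProduct.includeRight := by
  letI : Algebra A' C := (πC.comp Algebra.TensorProduct.includeRight).toRingHom.toAlgebra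
  haveI : IsScalarTower R A' C := IsScalarTower.of_algebraMap_eq fun x =>
    ((πC.comp Algebra.TensorProduct.includeRight).commutes x).symm
  haveI : Algebra.Etale A' C := RingHom.etale_algebraMap.mp het
  have halg : ∀ x : A', algebraMap A' C x = πC (1 ⊗ₜ x) := fun x => rfl
  let ιB : (πC.comp Algebra.TensorProduct.includeLeft).range →ₐ[R] C :=
    (πC.comp Algebra.TensorProduct.includeLeft).range.val
  have hsurj : ∀ c : C, ∃ x : A' ⊗[R] (πC.comp Algebra.TensorProduct.includeLeft).range,
      Algebra.TensorProduct.lift (Algebra.ofId A' C) ιB (fun _ _ => .all _ _) x = c := by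
    intro c
    obtain ⟨x, rfl⟩ := hπC c
    induction x using TensorProduct.induction_on with
    | zero => exact ⟨0, by simp⟩
    | tmul y z =>
      refine ⟨z ⊗ₜ ⟨_, y, rfl⟩, ?_⟩
      rw [Algebra.TensorProduct.lift_tmul, Algebra.ofId_apply, halg]
      show πC (1 ⊗ₜ[R] z) * πC (y ⊗ₜ[R] 1) = πC (y ⊗ₜ[R] z)
      rw [← map_mul]
      simp
    | add x y hx hy =>
      obtain ⟨u, hu⟩ := hx
      obtain ⟨v, hv⟩ := hy
      exact ⟨u + v, by rw [map_add, hu, hv, map_add]⟩
  have hbij := bijective_lift_of_datum ιB Subtype.val_injective hsurj θ (fun x => AlgHom.congr_fun hθA x) (by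
    rintro ⟨_, y, rfl⟩
    exact AlgHom.congr_fun hθB y)
  let e : A' ⊗[R] (πC.comp Algebra.TensorProduct.includeLeft).range ≃ₐ[A'] C := AlgEquiv.ofBijective _ hbij
  have he : ∀ z, e z = Algebra.TensorProduct.lift (Algebra.ofId A' C) ιB (fun _ _ => .all _ _) z := fun _ => rfl
  haveI : Algebra.Etale A' (A' ⊗[R] (πC.comp Algebra.TensorProduct.includeLeft).range) := Algebra.Etale.of_equiv e.symm
  refine ⟨(πC.comp Algebra.TensorProduct.includeLeft).range, inferInstance, inferInstance,
    (πC.comp Algebra.TensorProduct.includeLeft).rangeRestrict, ιB,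
    (Algebra.TensorProduct.comm R A' _).toAlgHom.comp (e.symm.toAlgHom.restrictScalars R),
    Algebra.Etale.of_etale_tensorProduct_of_faithfullyFlat A', rfl, ?_, ?_⟩
  · refine AlgHom.ext fun y => ?_
    have h : e.symm ((πC.comp Algebra.TensorProduct.includeLeft) y) =
        1 ⊗ₜ (πC.comp Algebra.TensorProduct.includeLeft).rangeRestrict y := by
      rw [AlgEquiv.symm_apply_eq, he, Algebra.TensorProduct.lift_tmul, map_one, one_mul]
      rfl
    exact (congrArg (Algebra.TensorProduct.comm R A' _) h).trans (Algebra.TensorProduct.comm_tmul ..)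
  · refine AlgHom.ext fun y => ?_
    have h : e.symm ((πC.comp Algebra.TensorProduct.includeRight) y) = y ⊗ₜ 1 := by
      rw [AlgEquiv.symm_apply_eq, he, Algebra.TensorProduct.lift_tmul, map_one, mul_one]
      rfl
    exact (congrArg (Algebra.TensorProduct.comm R A' _) h).trans (Algebra.TensorProduct.comm_tmul ..)

/-- An etale model of the lift. -/
theorem exists_etale_model [IsLocalRing R] [Module.FaithfullyFlat R A'] [IsLocalRing A']
    [IsLocalHom (algebraMap R A')] (hP : IsAlgSpace P) (hπ : IsSeparatedMor π)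
    (l : (yon S).obj (algObj r A') ⟶ P) (hl : l ≫ π = (yon S).map (toBase r A'))
    (hl₂ : (yon S).map (algMap r A' (D' := A' ⊗[R] A') Algebra.TensorProduct.includeLeft) ≫ l =
      (yon S).map (algMap r A' (D' := A' ⊗[R] A') Algebra.TensorProduct.includeRight) ≫ l) :
    ∃ (B : Type u) (_ : CommRing B) (_ : Algebra R B) (lam : (yon S).obj (algObj r B) ⟶ P),
      Algebra.Etale R B ∧ Surjective (toBase r B).left ∧ lam ≫ π = (yon S).map (toBase r B) ∧
      (yon S).map (algMap r B (D' := B ⊗[R] A') Algebra.TensorProduct.includeLeft) ≫ lam =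
        (yon S).map (algMap r A' (D' := B ⊗[R] A') Algebra.TensorProduct.includeRight) ≫ l := by
  have hl' : ∀ {D : Type u} [CommRing D] [Algebra R D] (θ : A' →ₐ[R] D),
      ((yon S).map (algMap r A' θ) ≫ l) ≫ π = (yon S).map (toBase r D) := fun θ => by
    rw [Category.assoc, hl, ← Functor.map_comp, algMap_toBase]
  -- an affine chart around the closed point of the lift
  obtain ⟨W₀, a, ha, has⟩ := hP.atlas
  let κc : (algObj r A').left := IsLocalRing.closedPoint A'
  obtain ⟨w₀, hw₀⟩ := surjective_ofPt has (Points.ofPt l κc)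
  obtain ⟨O, hO, hwO, -⟩ := exists_isAffineOpen_mem_and_subset (X := W₀.left) (x := w₀) (U := ⊤) trivial
  let U₀ : Over S := Over.mk (O.ι ≫ W₀.hom)
  let ι : U₀ ⟶ W₀ := Over.homMk O.ι rfl
  haveI : IsAffine U₀.left := hO
  obtain ⟨q₀, hq₀⟩ := (yon S).map_surjective (((yon S).map ι ≫ a) ≫ π)
  let ρ : CommRingCat.of R ⟶ Γ(U₀.left, ⊤) := Spec.preimage (U₀.left.isoSpec.inv ≫ q₀.left)
  let B₀ : Type u := Γ(U₀.left, ⊤)
  letI : Algebra R B₀ := ρ.hom.toAlgebra
  have hρ : Spec.map (CommRingCat.ofHom (algebraMap R B₀)) = U₀.left.isoSpec.inv ≫ q₀.left := Spec.map_preimage _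
  let eU : algObj r B₀ ⟶ U₀ := Over.homMk U₀.left.isoSpec.inv (by
    show U₀.left.isoSpec.inv ≫ U₀.hom = Spec.map _ ≫ r
    rw [hρ, Category.assoc]
    congr 1
    exact (Over.w q₀).symm)
  haveI : IsIso eU.left := inferInstanceAs (IsIso U₀.left.isoSpec.inv)
  let b := (yon S).map eU ≫ (yon S).map ι ≫ a
  have hb : RepWith @Etale b := repWith_yon_comp eU (inferInstance : Etale eU.left)
    (repWith_yon_comp ι (inferInstanceAs (Etale O.ι)) ha)
  have hbπ : b ≫ π = (yon S).map (toBase r B₀) := by
    rw [Category.assoc, ← hq₀, ← Functor.map_comp]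
    congr 1
    exact Over.OverMorphism.ext hρ.symm
  obtain ⟨w, hw⟩ : ∃ w : (algObj r B₀).left, Points.ofPt b w = Points.ofPt l κc := by
    refine ⟨U₀.left.isoSpec.hom (⟨w₀, hwO⟩ : O.toScheme), ?_⟩
    rw [ofPt_comp, show eU.left (U₀.left.isoSpec.hom (⟨w₀, hwO⟩ : O.toScheme)) = (⟨w₀, hwO⟩ : O.toScheme) by
      show (U₀.left.isoSpec.hom ≫ U₀.left.isoSpec.inv) _ = _
      rw [Iso.hom_inv_id]
      rfl, ofPt_comp]
    exact hw₀
  -- its pullback along the lift is a closed subscheme of the product
  obtain ⟨W, fW, gW, sW⟩ := exists_isPullback (hP.representable_from_yon b) l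
  have hg : Etale gW.left := prop_snd sW hb
  obtain ⟨C, _, _, πC, eC, hπC, heCf, heCg⟩ := exists_closed_model r π hπ l hl hbπ sW
  let πB : B₀ →ₐ[R] C := πC.comp Algebra.TensorProduct.includeLeft
  let πA : A' →ₐ[R] C := πC.comp Algebra.TensorProduct.includeRight
  have het : πA.toRingHom.Etale := by
    have h : Etale (Spec.map (CommRingCat.ofHom πA.toRingHom)) := by
      show Etale (algMap r A' πA).left
      rw [← heCg, Over.comp_left]
      haveI : IsIso eC.hom.left := inferInstanceAs (IsIso ((Over.forget S).map eC.hom))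
      infer_instance
    rw [HasRingHomProperty.Spec_iff (P := @Etale)] at h
    exact h
  have hCbl : (yon S).map (algMap r B₀ πB) ≫ b = (yon S).map (algMap r A' πA) ≫ l := by
    rw [← heCf, ← heCg, Functor.map_comp, Functor.map_comp, Category.assoc, Category.assoc, sW.w]
  have hglift : (yon S).map (algMap r B₀ (D' := C ⊗[R] A') ((Algebra.TensorProduct.includeLeft : C →ₐ[R] C ⊗[R] A').comp πB)) ≫ b =
      (yon S).map (algMap r A' (D' := C ⊗[R] A') Algebra.TensorProduct.includeRight) ≫ l := by
    have e₁ : (Algebra.TensorProduct.includeLeft : C →ₐ[R] C ⊗[R] A').comp πA =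
        (Algebra.TensorProduct.map πA (AlgHom.id R A')).comp Algebra.TensorProduct.includeLeft := by
      ext x; simp
    have e₂ : (Algebra.TensorProduct.map πA (AlgHom.id R A')).comp Algebra.TensorProduct.includeRight =
        (Algebra.TensorProduct.includeRight : A' →ₐ[R] C ⊗[R] A') := by
      ext x; simp
    rw [algMap_comp, Functor.map_comp, Category.assoc, hCbl, ← Category.assoc, ← Functor.map_comp, ← algMap_comp,
      e₁, algMap_comp, Functor.map_comp, Category.assoc, hl₂, ← Category.assoc, ← Functor.map_comp, ← algMap_comp,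
      e₂]
  obtain ⟨g, hgf, hgg⟩ := exists_lift sW
    ((yon S).map (algMap r B₀ (D' := C ⊗[R] A') ((Algebra.TensorProduct.includeLeft : C →ₐ[R] C ⊗[R] A').comp πB)))
    (algMap r A' (D' := C ⊗[R] A') Algebra.TensorProduct.includeRight) hglift
  have hge : (g ≫ eC.inv) ≫ eC.hom = g := by rw [Category.assoc, Iso.inv_hom_id, Category.comp_id]
  have hgCA : (g ≫ eC.inv) ≫ algMap r A' πA =
      algMap r A' (D' := C ⊗[R] A') Algebra.TensorProduct.includeRight := by
    rw [← heCg, ← Category.assoc, hge, hgg]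
  obtain ⟨θ, hθg⟩ := exists_algHom_of_hom r (g ≫ eC.inv) (by
    rw [← algMap_toBase r A' πA, ← Category.assoc, hgCA, algMap_toBase])
  have hθA : θ.comp πA = (Algebra.TensorProduct.includeRight : A' →ₐ[R] C ⊗[R] A') :=
    algMap_injective r ((algMap_comp r πA θ).trans ((congrArg (· ≫ algMap r A' πA) hθg.symm).trans hgCA))
  have hθB : θ.comp πB = (Algebra.TensorProduct.includeLeft : C →ₐ[R] C ⊗[R] A').comp πB := by
    refine algMap_injective r ((algMap_comp r πB θ).trans
      ((congrArg (· ≫ algMap r B₀ πB) hθg.symm).trans ((yon S).map_injective ?_)))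
    rw [← heCf, ← Category.assoc, hge, Functor.map_comp, hgf]
  obtain ⟨B, _, _, mB, ιB, ε, hBet, hmB, hεB, hεA⟩ := exists_descended_algebra πC hπC het θ hθA hθB
  have hBetale : Etale (toBase r B).left :=
    (HasRingHomProperty.Spec_iff (P := @Etale)).2 (RingHom.etale_algebraMap.mpr hBet)
  have hBsurj : Surjective (toBase r B).left := by
    refine ⟨fun y => ?_⟩
    obtain ⟨x, hxf, hxg⟩ := (ofPt_eq_iff sW w κc).1 hw
    let x' := eC.inv.left x
    have hgx : (algMap r A' πA).left x' = κc := by
      rw [← heCg, ← Scheme.Hom.comp_apply, ← Over.comp_left, Iso.inv_hom_id_assoc]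
      exact hxg
    have hclosed : (toBase r B).left ((algMap r B ιB).left x') = IsLocalRing.closedPoint R := by
      rw [← Scheme.Hom.comp_apply, ← Over.comp_left, algMap_toBase, ← algMap_toBase r A' πA, Over.comp_left,
        Scheme.Hom.comp_apply, hgx]
      exact IsLocalRing.comap_closedPoint (S := A') (algebraMap R A')
    have hopen : IsOpen (Set.range (toBase r B).left) := (toBase r B).left.isOpenMap.isOpen_range
    exact (IsLocalRing.specializes_closedPoint (R := R) y).mem_open hopen ⟨_, hclosed⟩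
  let lam := (yon S).map (algMap r B₀ mB) ≫ b
  have hlamA : (yon S).map (algMap r B (Algebra.TensorProduct.includeLeft : B →ₐ[R] B ⊗[R] A')) ≫ lam =
      (yon S).map (algMap r A' (Algebra.TensorProduct.includeRight : A' →ₐ[R] B ⊗[R] A')) ≫ l := by
    show _ ≫ (yon S).map (algMap r B₀ mB) ≫ b = _
    rw [← Category.assoc, ← Functor.map_comp, ← algMap_comp, ← hεB, ← hεA, algMap_comp r πB ε, algMap_comp r πA ε,
      Functor.map_comp, Functor.map_comp, Category.assoc, Category.assoc, hCbl]
  refine ⟨B, inferInstance, inferInstance, lam, hBet, hBsurj, ?_, hlamA⟩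
  show ((yon S).map (algMap r B₀ mB) ≫ b) ≫ π = _
  rw [Category.assoc, hbπ, ← Functor.map_comp, algMap_toBase]

/-- The etale model restricts to the given point over the fraction field. -/
theorem etale_model_generic [IsFractionRing R K] (hπ : IsSeparatedMor π) (κ : A' →ₐ[R] K') (ψ : K →ₐ[R] K')
    (hψ : Function.Injective ψ)
    (p : (yon S).obj (algObj r K) ⟶ P) (hp : p ≫ π = (yon S).map (toBase r K))
    (l : (yon S).obj (algObj r A') ⟶ P)
    (hlp : (yon S).map (algMap r A' κ) ≫ l = (yon S).map (algMap r K ψ) ≫ p)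
    {B : Type u} [CommRing B] [Algebra R B] [Module.Flat R B] (lam : (yon S).obj (algObj r B) ⟶ P)
    (hlamπ : lam ≫ π = (yon S).map (toBase r B))
    (hlamA : (yon S).map (algMap r B (D' := B ⊗[R] A') Algebra.TensorProduct.includeLeft) ≫ lam =
        (yon S).map (algMap r A' (D' := B ⊗[R] A') Algebra.TensorProduct.includeRight) ≫ l) :
    (yon S).map (algMap r B (D' := B ⊗[R] K) Algebra.TensorProduct.includeLeft) ≫ lam =
      (yon S).map (algMap r K (D' := B ⊗[R] K) Algebra.TensorProduct.includeRight) ≫ p := by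
  have hlam : ∀ {D : Type u} [CommRing D] [Algebra R D] (θ : B →ₐ[R] D),
      ((yon S).map (algMap r B θ) ≫ lam) ≫ π = (yon S).map (toBase r D) := fun θ => by
    rw [Category.assoc, hlamπ, ← Functor.map_comp, algMap_toBase]
  have hp' : ∀ {D : Type u} [CommRing D] [Algebra R D] (θ : K →ₐ[R] D),
      ((yon S).map (algMap r K θ) ≫ p) ≫ π = (yon S).map (toBase r D) := fun θ => by
    rw [Category.assoc, hp, ← Functor.map_comp, algMap_toBase]
  let χ : B ⊗[R] K →ₐ[R] B ⊗[R] K' := Algebra.TensorProduct.map (AlgHom.id R B) ψ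
  have hχ : Function.Injective χ := by
    have : χ.toLinearMap = ψ.toLinearMap.lTensor B := by
      ext x y; simp [χ]
    intro u v h
    refine Module.Flat.lTensor_preserves_injective_linearMap ψ.toLinearMap hψ ?_
    rw [← this]
    exact h
  refine eq_of_appTop_injective hπ (T := algObj r (B ⊗[R] K)) (algMap r (B ⊗[R] K) χ)
    (appTop_injective_algMap r χ hχ) ((hlam _).trans (hp' _).symm) ?_
  have e₁ : χ.comp Algebra.TensorProduct.includeLeft =
      (Algebra.TensorProduct.map (AlgHom.id R B) κ).comp Algebra.TensorProduct.includeLeft := by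
    ext x; simp [χ]
  have e₂ : χ.comp Algebra.TensorProduct.includeRight =
      (Algebra.TensorProduct.includeRight : K' →ₐ[R] B ⊗[R] K').comp ψ := by
    ext x; simp [χ]
  have e₃ : (Algebra.TensorProduct.map (AlgHom.id R B) κ).comp Algebra.TensorProduct.includeRight =
      (Algebra.TensorProduct.includeRight : K' →ₐ[R] B ⊗[R] K').comp κ := by
    ext x; simp
  rw [← Category.assoc, ← Category.assoc, ← Functor.map_comp, ← Functor.map_comp, ← algMap_comp, ← algMap_comp,
    e₁, e₂, algMap_comp, algMap_comp, Functor.map_comp, Functor.map_comp, Category.assoc, Category.assoc, hlamA,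
    ← hlp, ← Category.assoc, ← Category.assoc, ← Functor.map_comp, ← Functor.map_comp, ← algMap_comp, ← algMap_comp,
    e₃]

end

/-- A lift over a faithfully flat extension descends. -/
theorem exists_section_of_extension [IsLocalRing R] {K A' K' : Type u} [Field K] [Algebra R K]
    [IsFractionRing R K] [CommRing A'] [Algebra R A'] [Module.FaithfullyFlat R A'] [IsLocalRing A']
    [IsLocalHom (algebraMap R A')] [Field K'] [Algebra R K'] [Module.Flat R K']
    (κ : A' →ₐ[R] K') (hκ : Function.Injective κ) (ψ : K →ₐ[R] K')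
    {P : Sp S} (hP : IsAlgSpace P) (π : P ⟶ (yon S).obj (Over.mk r)) (hπ : IsSeparatedMor π)
    (p : (yon S).obj (algObj r K) ⟶ P) (hp : p ≫ π = (yon S).map (toBase r K))
    (l : (yon S).obj (algObj r A') ⟶ P) (hl : l ≫ π = (yon S).map (toBase r A'))
    (hlp : (yon S).map (algMap r A' κ) ≫ l = (yon S).map (algMap r K ψ) ≫ p) :
    ∃ s : (yon S).obj (Over.mk r) ⟶ P, s ≫ π = 𝟙 _ ∧ (yon S).map (toBase r K) ≫ s = p := by
  obtain ⟨B, _, _, lam, hBet, hBsurj, hlamπ, hlamA⟩ :=
    exists_etale_model r π hP hπ l hl (lift_pullbacks_eq r π hπ κ hκ ψ p l hl hlp)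
  haveI : Module.Flat R K := IsLocalization.flat K (nonZeroDivisors R)
  haveI : Module.Flat R B := inferInstance
  have hBetale : Etale (toBase r B).left :=
    (HasRingHomProperty.Spec_iff (P := @Etale)).2 (RingHom.etale_algebraMap.mpr hBet)
  have hlam : ∀ {D : Type u} [CommRing D] [Algebra R D] (θ : B →ₐ[R] D),
      ((yon S).map (algMap r B θ) ≫ lam) ≫ π = (yon S).map (toBase r D) := fun θ => by
    rw [Category.assoc, hlamπ, ← Functor.map_comp, algMap_toBase]
  have hlamK := etale_model_generic r π hπ κ ψ ψ.toRingHom.injective p hp l hlp lam hlamπ hlamA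
  -- descent
  have hRK : Function.Injective (algebraMap R K) := IsFractionRing.injective R K
  have hBB : (yon S).map (algMap r B (Algebra.TensorProduct.includeLeft : B →ₐ[R] B ⊗[R] B)) ≫ lam =
      (yon S).map (algMap r B (Algebra.TensorProduct.includeRight : B →ₐ[R] B ⊗[R] B)) ≫ lam := by
    let χ : B ⊗[R] B →ₐ[R] (B ⊗[R] B) ⊗[R] K := Algebra.TensorProduct.includeLeft
    refine eq_of_appTop_injective hπ (T := algObj r (B ⊗[R] B)) (algMap r (B ⊗[R] B) χ)
      (appTop_injective_algMap r χ (Algebra.TensorProduct.includeLeft_injective hRK))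
      ((hlam _).trans (hlam _).symm) ?_
    have key : ∀ i : B →ₐ[R] B ⊗[R] B, (yon S).map (algMap r (B ⊗[R] B) χ) ≫ (yon S).map (algMap r B i) ≫ lam =
        (yon S).map (algMap r K (Algebra.TensorProduct.includeRight : K →ₐ[R] (B ⊗[R] B) ⊗[R] K)) ≫ p := fun i => by
      have e₁ : χ.comp i = (Algebra.TensorProduct.map i (AlgHom.id R K)).comp Algebra.TensorProduct.includeLeft := by
        ext x; simp [χ]
      have e₂ : (Algebra.TensorProduct.map i (AlgHom.id R K)).comp Algebra.TensorProduct.includeRight =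
          (Algebra.TensorProduct.includeRight : K →ₐ[R] (B ⊗[R] B) ⊗[R] K) := by
        ext x; simp
      rw [← Category.assoc, ← Functor.map_comp, ← algMap_comp, e₁, algMap_comp, Functor.map_comp, Category.assoc,
        hlamK, ← Category.assoc, ← Functor.map_comp, ← algMap_comp, e₂]
    rw [key, key]
  haveI := hBetale
  haveI := hBsurj
  obtain ⟨s, hs⟩ := exists_descend_fppf (toBase r B) lam fun T u v e => by
    obtain ⟨k, hk₁, hk₂⟩ := exists_lift (yon_isPullback (isPullback_algObj r B B)) ((yon S).map u) v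
      (by rw [← Functor.map_comp, ← Functor.map_comp, e])
    rw [← hk₁, ← hk₂, Functor.map_comp, Category.assoc, Category.assoc, hBB]
  haveI := hBetale
  haveI := hBsurj
  have hsπ : s ≫ π = 𝟙 _ := by
    obtain ⟨σ, hσ⟩ := (yon S).map_surjective (s ≫ π)
    have hσ' : toBase r B ≫ σ = toBase r B := (yon S).map_injective (by
      rw [Functor.map_comp, hσ, ← Category.assoc, hs, hlamπ])
    have : σ = 𝟙 _ := by
      refine Over.OverMorphism.ext ?_
      rw [← cancel_epi (toBase r B).left, ← Over.comp_left, hσ']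
      simp
    rw [← hσ, this, CategoryTheory.Functor.map_id]
  refine ⟨s, ?_, ?_⟩
  · exact hsπ
  · have hinj : Function.Injective (Algebra.TensorProduct.includeRight : K →ₐ[R] B ⊗[R] K) := by
      haveI : Module.FaithfullyFlat R B :=
        Module.FaithfullyFlat.of_comap_surjective hBsurj.surj
      exact Algebra.TensorProduct.includeRight_injective (FaithfulSMul.algebraMap_injective R B)
    refine eq_of_appTop_injective hπ (T := algObj r K) (algMap r K (D' := B ⊗[R] K) Algebra.TensorProduct.includeRight)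
      (appTop_injective_algMap r (D' := B ⊗[R] K) Algebra.TensorProduct.includeRight hinj) ?_ ?_
    · rw [hp, Category.assoc, hsπ, Category.comp_id]
    · rw [← Category.assoc, ← Functor.map_comp, algMap_toBase,
        ← algMap_toBase r B (Algebra.TensorProduct.includeLeft : B →ₐ[R] B ⊗[R] K), Functor.map_comp, Category.assoc,
        hs, hlamK]

end Groth.Agent.AlgSpUnivClosed
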