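import Groth.Agent.AlgSpUnivClosed.Transfer
import Groth.Agent.UnivClosed.Basic
import Groth.Agent.AlgSpLib.Compact

/-!
Closedness over an affine scheme from closedness over affine spaces.
-/

set_option autoImplicit false
set_option backward.isDefEq.respectTransparency.types false

universe u

open CategoryTheory CategoryTheory.Limits AlgebraicGeometry Opposite AlgSp Topology TensorProduct

namespace Groth.Agent.AlgSpUnivClosed

open Groth.Agent.AlgSpLib

variable {S : Scheme.{u}}

section Objects

variable {R : Type u} [CommRing R] (r : Spec (CommRingCat.of R) ⟶ S) (D : Type u) [CommRing D] [Algebra R D]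

/-- The spectrum of an algebra over an affine scheme over `S`. -/
noncomputable def algObj : Over S := Over.mk (Spec.map (CommRingCat.ofHom (algebraMap R D)) ≫ r)

/-- Its structure map. -/
noncomputable def toBase : algObj r D ⟶ Over.mk r := Over.homMk (Spec.map (CommRingCat.ofHom (algebraMap R D))) rfl

/-- The map induced by a map of algebras. -/
noncomputable def algMap {D' : Type u} [CommRing D'] [Algebra R D'] (θ : D →ₐ[R] D') : algObj r D' ⟶ algObj r D :=
  Over.homMk (Spec.map (CommRingCat.ofHom θ.toRingHom)) (by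
    show Spec.map _ ≫ Spec.map _ ≫ r = Spec.map _ ≫ r
    rw [← Spec.map_comp_assoc, ← CommRingCat.ofHom_comp, AlgHom.toRingHom_eq_coe, AlgHom.comp_algebraMap])

theorem algMap_toBase {D' : Type u} [CommRing D'] [Algebra R D'] (θ : D →ₐ[R] D') :
    algMap r D θ ≫ toBase r D = toBase r D' := by
  refine Over.OverMorphism.ext ?_
  show Spec.map _ ≫ Spec.map _ = Spec.map _
  rw [← Spec.map_comp, ← CommRingCat.ofHom_comp, AlgHom.toRingHom_eq_coe, AlgHom.comp_algebraMap]

theorem isPullback_algObj (B : Type u) [CommRing B] [Algebra R B] :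
    IsPullback (algMap r B (Algebra.TensorProduct.includeLeft (R := R) (S := R) (A := B) (B := D)))
      (algMap r D (Algebra.TensorProduct.includeRight (R := R) (A := B) (B := D))) (toBase r B) (toBase r D) := by
  refine IsPullback.of_map (Over.forget S) (by rw [algMap_toBase, algMap_toBase]) ?_
  exact (IsPullback.of_hasPullback _ _).of_iso (pullbackSpecIso R B D) (Iso.refl _) (Iso.refl _) (Iso.refl _)
    ((Category.comp_id _).trans (pullbackSpecIso_hom_fst R B D).symm)
    ((Category.comp_id _).trans (pullbackSpecIso_hom_snd R B D).symm) (by simp; rfl) (by simp; rfl)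

end Objects

/-- The core of the argument: an affine piece. -/
theorem img_closed_nhd {X Y : Sp S} {f : X ⟶ Y} {R : Type u} [CommRing R]
    (r : Spec (CommRingCat.of R) ⟶ S) (c : (yon S).obj (Over.mk r) ⟶ Y) {B : Type u} [CommRing B] [Algebra R B]
    (w : (yon S).obj (algObj r B) ⟶ pullback f c) (hw : RepWith @Etale w) (hws : RepWith @Surjective w)
    (hwc : w ≫ pullback.snd f c = (yon S).map (toBase r B)) {A : Type u} [CommRing A] [Algebra R A]
    (H : ∀ A₀ : Subalgebra R A, A₀.FG → SndClosed f ((yon S).map (toBase r A₀) ≫ c)) :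
    SndClosed f ((yon S).map (toBase r A) ≫ c) := by
  -- charts of the base changes
  let π₀ : ∀ (D : Type u) [CommRing D] [Algebra R D], pullback f ((yon S).map (toBase r D) ≫ c) ⟶ pullback f c :=
    fun D _ _ => pmap f c _ (toBase r D) rfl
  let e : ∀ (D : Type u) [CommRing D] [Algebra R D],
      (yon S).obj (algObj r (B ⊗[R] D)) ⟶ pullback f ((yon S).map (toBase r D) ≫ c) := fun D _ _ =>
    (isPullback_pmap f c ((yon S).map (toBase r D) ≫ c) (toBase r D) rfl).lift
      ((yon S).map (algMap r B Algebra.TensorProduct.includeLeft) ≫ w)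
      ((yon S).map (algMap r D Algebra.TensorProduct.includeRight))
      (by rw [Category.assoc, hwc, ← Functor.map_comp, ← Functor.map_comp, algMap_toBase, algMap_toBase])
  have he₂ : ∀ (D : Type u) [CommRing D] [Algebra R D], e D ≫ pullback.snd f _ =
      (yon S).map (algMap r D Algebra.TensorProduct.includeRight) := fun D _ _ =>
    (isPullback_pmap f c _ (toBase r D) rfl).lift_snd _ _ _
  have sq : ∀ (D : Type u) [CommRing D] [Algebra R D],
      IsPullback ((yon S).map (algMap r B Algebra.TensorProduct.includeLeft)) (e D) w (π₀ D) := fun D _ _ => by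
    refine IsPullback.of_bot ?_ ((isPullback_pmap f c _ (toBase r D) rfl).lift_fst _ _ _).symm
      (isPullback_pmap f c _ (toBase r D) rfl)
    rw [he₂, hwc]
    exact yon_isPullback (isPullback_algObj r D B)
  intro C hC
  rw [← isOpen_compl_iff, isOpen_iff_forall_mem_open]
  intro p hp
  obtain ⟨J, hJ⟩ := (PrimeSpectrum.isClosed_iff_zeroLocus_ideal _).1
    (hC.preimage (Points.continuous_ofPt (e A)) : IsClosed (X := PrimeSpectrum (B ⊗[R] A)) _)
  obtain ⟨F, hF⟩ := UnivClosed.exists_element J p.asIdeal (by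
    intro Q hQ hJQ hQp
    have hmem : (⟨Q, hQ⟩ : PrimeSpectrum (B ⊗[R] A)) ∈ Points.ofPt (e A) ⁻¹' C := hJ ▸ hJQ
    refine hp ⟨_, hmem, ?_⟩
    rw [Points.map_ofPt, he₂, ← Category.comp_id ((yon S).map _), ofPt_comp]
    exact congrArg _ (PrimeSpectrum.ext hQp))
  let A₀ : Subalgebra R A := Algebra.adjoin R (F : Set A)
  obtain ⟨a₀, ha₀, hQ₀⟩ := hF A₀ Algebra.subset_adjoin
  have hA₀ := H A₀ ⟨F, rfl⟩
  let τ : algObj r A ⟶ algObj r A₀ := algMap r A₀ A₀.val
  have hτ : (yon S).map τ ≫ (yon S).map (toBase r A₀) ≫ c = (yon S).map (toBase r A) ≫ c := by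
    rw [← Category.assoc, ← Functor.map_comp, algMap_toBase]
  let π := pmap f ((yon S).map (toBase r A₀) ≫ c) ((yon S).map (toBase r A) ≫ c) τ hτ
  let θ : B ⊗[R] A₀ →ₐ[R] B ⊗[R] A := Algebra.TensorProduct.map (AlgHom.id R B) A₀.val
  have hπ : π ≫ π₀ A₀ = π₀ A := by
    apply pullback.hom_ext
    · simp only [π, π₀, pmap, Category.assoc]
      rw [pullback.lift_fst, pullback.lift_fst, pullback.lift_fst]
    · simp only [π, π₀, pmap, Category.assoc, pullback.lift_snd, pullback.lift_snd_assoc]
      rw [← Functor.map_comp, algMap_toBase]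
  have hl : algMap r (B ⊗[R] A₀) θ ≫ algMap r B Algebra.TensorProduct.includeLeft =
      algMap r B Algebra.TensorProduct.includeLeft := by
    refine Over.OverMorphism.ext ?_
    show Spec.map _ ≫ Spec.map _ = Spec.map _
    rw [← Spec.map_comp, ← CommRingCat.ofHom_comp]
    congr 2
  have hr : algMap r (B ⊗[R] A₀) θ ≫ algMap r A₀ Algebra.TensorProduct.includeRight =
      algMap r A Algebra.TensorProduct.includeRight ≫ τ := by
    refine Over.OverMorphism.ext ?_
    show Spec.map _ ≫ Spec.map _ = Spec.map _ ≫ Spec.map _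
    rw [← Spec.map_comp, ← Spec.map_comp, ← CommRingCat.ofHom_comp, ← CommRingCat.ofHom_comp]
    congr 2
  have sθ : IsPullback ((yon S).map (algMap r (B ⊗[R] A₀) θ)) (e A) (e A₀) π := by
    refine IsPullback.of_right ?_ ?_ (sq A₀)
    · rw [← Functor.map_comp, hl, hπ]
      exact sq A
    · apply (isPullback_pmap f c ((yon S).map (toBase r A₀) ≫ c) (toBase r A₀) rfl).hom_ext
      · change ((yon S).map _ ≫ e A₀) ≫ π₀ A₀ = (e A ≫ π) ≫ π₀ A₀
        rw [Category.assoc, ← (sq A₀).w, Category.assoc, hπ, ← (sq A).w, ← Category.assoc, ← Functor.map_comp, hl]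
      · rw [Category.assoc, he₂, ← Functor.map_comp, hr, Functor.map_comp, Category.assoc,
          (isPullback_pmap f _ _ τ hτ).w, reassoc_of% (he₂ A)]
  let D : Set (Points (pullback f ((yon S).map (toBase r A₀) ≫ c))) := closure (Points.map π '' C)
  have hclosed := hA₀ D isClosed_closure
  have hnot : τ.left p ∉ img f _ D := by
    rintro ⟨z, hz, hzs⟩
    have he₀s : RepWith @Surjective (e A₀) := repWith_baseChange (sq A₀) hws
    have he₀ : RepWith @Etale (e A₀) := repWith_baseChange (sq A₀) hw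
    obtain ⟨v, rfl⟩ := surjective_ofPt he₀s z
    have hv : v ∈ closure (Points.ofPt (e A₀) ⁻¹' (Points.map π '' C)) := by
      rw [← (isOpenMap_ofPt_of_etale he₀).preimage_closure_eq_closure_preimage (Points.continuous_ofPt _)]
      exact hz
    have hsub : (Points.ofPt (e A₀) ⁻¹' (Points.map π '' C) : Set (PrimeSpectrum (B ⊗[R] A₀))) ⊆
        PrimeSpectrum.zeroLocus {(a₀ : B ⊗[R] A₀)} := by
      rintro v' ⟨c', hc', hv'⟩
      obtain ⟨z', hz₁, hz₂⟩ := exists_point_of_isPullback sθ (Points.ofPt (𝟙 _) v') c'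
        (by rw [Points.map_ofPt, Category.id_comp, hv'])
      obtain ⟨q, rfl⟩ := exists_ofScheme z'
      rw [Points.map_ofPt, Category.id_comp] at hz₂
      rw [Points.map_ofPt, Category.id_comp, ← Category.comp_id ((yon S).map _), ofPt_comp] at hz₁
      have hq : (q : PrimeSpectrum (B ⊗[R] A)) ∈ PrimeSpectrum.zeroLocus (J : Set (B ⊗[R] A)) :=
        (Set.ext_iff.1 hJ q).1 (hz₂.symm ▸ hc' : Points.ofPt (e A) q ∈ C)
      rw [← ofPt_id_injective hz₁]
      exact Set.singleton_subset_iff.2 (hq ha₀)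
    have hva : (a₀ : B ⊗[R] A₀) ∈ (v : PrimeSpectrum (B ⊗[R] A₀)).asIdeal :=
      (closure_minimal hsub (PrimeSpectrum.isClosed_zeroLocus _)) hv (Set.mem_singleton a₀)
    rw [Points.map_ofPt, he₂, ← Category.comp_id ((yon S).map _), ofPt_comp] at hzs
    exact hQ₀ _ (v : PrimeSpectrum (B ⊗[R] A₀)).isPrime hva
      (congrArg PrimeSpectrum.asIdeal (ofPt_id_injective hzs))
  refine ⟨τ.left ⁻¹' (img f _ D)ᶜ, ?_, hclosed.isOpen_compl.preimage τ.left.continuous, hnot⟩
  intro a ha hac
  refine ha ?_
  have h' := (Set.ext_iff.1 (mem_img_pmap hτ D) a).1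
  refine h' ?_
  obtain ⟨z, hz, hza⟩ := hac
  exact ⟨z, subset_closure ⟨z, hz, rfl⟩, hza⟩

end Groth.Agent.AlgSpUnivClosed
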