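import Groth.Agent.AlgSpUnivClosed.Transfer
import Groth.Agent.AlgSpPts.QcPoint
import Groth.Agent.AlgSpFin.MorCalc
import Groth.Agent.AlgStLib.SpDiagProps
import Groth.Agent.AlgSpFin.DecentDescent
import Groth.Prelude.Def_AlgSpMor5

/-!
Universally closed quasi-separated morphisms satisfy the existence part of the valuative criterion.
-/

set_option autoImplicit false
set_option backward.isDefEq.respectTransparency.types false

universe u

open CategoryTheory CategoryTheory.Limits AlgebraicGeometry Opposite AlgSp Topology IsLocalRing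

namespace Groth.Agent.AlgSpUnivClosed

open Groth.Agent.AlgSpLib

variable {S : Scheme.{u}} {X Y : Sp S}

/-- A valuation ring realising a specialisation, with residue field at a point lying over the generalisation. -/
theorem exists_valuation_over {U R : Scheme.{u}} (m : R ⟶ U) (r : R) {w : U} (h : m r ⤳ w) :
    ∃ (A : Type u) (_ : CommRing A) (_ : IsDomain A) (_ : ValuationRing A) (_ : Algebra A (R.residueField r))
      (_ : IsFractionRing A (R.residueField r)) (β : Spec (CommRingCat.of A) ⟶ U),
      R.fromSpecResidueField r ≫ m = Spec.map (CommRingCat.ofHom (algebraMap A (R.residueField r))) ≫ β ∧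
        β (closedPoint A) = w := by
  let a : U.presheaf.stalk w ⟶ R.residueField r :=
    U.presheaf.stalkSpecializes h ≫ m.stalkMap r ≫ R.residue r
  obtain ⟨A, hA, hA_local⟩ := exists_factor_valuationRing a.hom
  let b : U.presheaf.stalk w ⟶ CommRingCat.of A := CommRingCat.ofHom (a.hom.codRestrict A.toSubring hA)
  refine ⟨A, inferInstance, inferInstance, inferInstance, inferInstance, inferInstance,
    Spec.map b ≫ U.fromSpecStalk w, ?_, ?_⟩
  · rw [Scheme.fromSpecResidueField, Category.assoc, ← Scheme.SpecMap_stalkMap_fromSpecStalk,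
      ← Scheme.SpecMap_stalkSpecializes_fromSpecStalk h]
    simp_rw [← Spec.map_comp_assoc]
    rfl
  · simp only [Scheme.Hom.comp_apply]
    have : Spec.map b (closedPoint A) = closedPoint (U.presheaf.stalk w) :=
      comap_closedPoint (S := A) (a.hom.codRestrict A.toSubring hA)
    rw [this, U.fromSpecStalk_closedPoint]

/-- Closedness of the base change gives lifts once the fibres of the etale charts are compact. -/
theorem hasLiftExt_of_compact (hX : IsAlgSpace X) (hY : IsAlgSpace Y) {f : X ⟶ Y}
    (hc : IsUnivClosedMor f) (sq : ValSq f)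
    (hcpt : ∀ ⦃U R : Over S⦄ (b : (yon S).obj U ⟶ pullback f sq.bot) (r : R ⟶ sq.ptK) (q : R ⟶ U),
      IsAffine U.left → RepWith @Etale b →
        IsPullback ((yon S).map r) ((yon S).map q) (pullback.lift sq.top ((yon S).map sq.j) sq.comm) b →
        CompactSpace ↥R.left) :
    sq.HasLiftExt := by
  let P := pullback f sq.bot
  have sP := IsPullback.of_hasPullback f sq.bot
  have hP : IsAlgSpace P := isAlgSpace_of_isPullback sP hX (IsAlgSpace.yon_obj _) hY
  have hclosed : IsClosedMap (Points.map (pullback.snd f sq.bot)) := hc (IsAlgSpace.yon_obj _) _ _ _ sP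
  let p : (yon S).obj sq.ptK ⟶ P := pullback.lift sq.top ((yon S).map sq.j) sq.comm
  have hp2 : p ≫ pullback.snd f sq.bot = (yon S).map sq.j := pullback.lift_snd _ _ _
  let k₀ : sq.ptK.left := closedPoint sq.K
  let c : Points P := Points.ofPt p k₀
  -- the closure of the point meets the closed fibre
  obtain ⟨z, hz, hzs⟩ : Points.ofPt (𝟙 _) (closedPoint sq.A : sq.ptA.left) ∈
      Points.map (pullback.snd f sq.bot) '' closure {c} := by
    refine ((specializes_closedPoint (R := sq.A) (sq.j.left k₀)).map (Points.continuous_ofPt (𝟙 _))).mem_closed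
      (hclosed _ isClosed_closure) ?_
    refine ⟨c, subset_closure rfl, ?_⟩
    rw [Points.map_ofPt, hp2, ← Category.comp_id ((yon S).map sq.j), ofPt_comp]
  obtain ⟨W₀, a, ha, has⟩ := hP.atlas
  obtain ⟨w₀, rfl⟩ := surjective_ofPt has z
  obtain ⟨O, hO, hwO, -⟩ := exists_isAffineOpen_mem_and_subset (X := W₀.left) (x := w₀) (U := ⊤) trivial
  let U : Over S := Over.mk (O.ι ≫ W₀.hom)
  let ι : U ⟶ W₀ := Over.homMk O.ι rfl
  have : IsAffine U.left := hO
  let b := (yon S).map ι ≫ a
  have hb : RepWith @Etale b := repWith_yon_comp ι (inferInstanceAs (Etale O.ι)) ha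
  obtain ⟨w, hbw⟩ : ∃ w : U.left, Points.ofPt b w = Points.ofPt a w₀ :=
    ⟨⟨w₀, hwO⟩, ofPt_comp ι a (⟨w₀, hwO⟩ : O.toScheme)⟩
  obtain ⟨R, r, q, sR⟩ := exists_isPullback (hP.representable_from_yon p) b
  have hr : Etale r.left := prop_snd sR.flip hb
  have : CompactSpace ↥R.left := hcpt b r q inferInstance hb sR
  have : IsAffine sq.ptK.left := inferInstanceAs (IsAffine (Spec (CommRingCat.of sq.K)))
  have : QuasiCompact r.left := quasiCompact_of_compactSpace r.left
  have hfin : (Set.univ : Set ↥R.left).Finite :=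
    (r.left.finite_preimage_singleton k₀).subset
      fun z _ => @Subsingleton.elim ↥(Spec (CommRingCat.of sq.K)) inferInstance _ _
  have hpre : Points.ofPt b ⁻¹' {c} ⊆ q.left '' Set.univ := fun u hu => by
    obtain ⟨x, -, hx⟩ := (ofPt_eq_iff sR k₀ u).1 (hu : Points.ofPt b u = c).symm
    exact ⟨x, trivial, hx⟩
  have hwc : w ∈ closure (Points.ofPt b ⁻¹' {c}) := by
    rw [← (isOpenMap_ofPt_of_etale hb).preimage_closure_eq_closure_preimage (Points.continuous_ofPt b),
      Set.mem_preimage, hbw]
    exact hz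
  have hwc' := closure_mono hpre hwc
  rw [← Set.biUnion_of_singleton (q.left '' Set.univ), (hfin.image q.left).closure_biUnion] at hwc'
  obtain ⟨_, ⟨r₀, -, rfl⟩, hspec⟩ := Set.mem_iUnion₂.1 hwc'
  obtain ⟨A, _, _, _, _, _, β, hβ, hβw⟩ := exists_valuation_over q.left r₀ (specializes_iff_mem_closure.2 hspec)
  obtain ⟨qU, hqU⟩ := (yon S).map_surjective (b ≫ pullback.snd f sq.bot)
  let φ : sq.A →+* A := (Spec.preimage (β ≫ qU.left : Spec (CommRingCat.of A) ⟶ Spec (CommRingCat.of sq.A))).hom
  let ψ : sq.K →+* R.left.residueField r₀ :=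
    (Spec.preimage (R.left.fromSpecResidueField r₀ ≫ r.left : Spec (R.left.residueField r₀) ⟶ Spec (CommRingCat.of sq.K))).hom
  have hφ : Spec.map (CommRingCat.ofHom φ) = β ≫ qU.left := Spec.map_preimage _
  have hψ : Spec.map (CommRingCat.ofHom ψ) = R.left.fromSpecResidueField r₀ ≫ r.left := Spec.map_preimage _
  have hsR : q ≫ qU = r ≫ sq.j := (yon S).map_injective (by
    rw [Functor.map_comp, Functor.map_comp, hqU, ← Category.assoc, ← sR.w, Category.assoc, hp2])
  have hcomm : (algebraMap A (R.left.residueField r₀)).comp φ = ψ.comp (algebraMap sq.A sq.K) := by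
    have : CommRingCat.ofHom ((algebraMap A (R.left.residueField r₀)).comp φ) =
        CommRingCat.ofHom (ψ.comp (algebraMap sq.A sq.K)) := by
      apply Spec.map_injective
      rw [CommRingCat.ofHom_comp, CommRingCat.ofHom_comp]
      erw [Spec.map_comp, Spec.map_comp]
      rw [hφ, hψ, ← Category.assoc, ← hβ, Category.assoc, ← Over.comp_left, hsR, Category.assoc]
      rfl
    exact congrArg CommRingCat.Hom.hom this
  have hloc : IsLocalHom φ := by
    rw [isLocalHom_iff_comap_closedPoint]
    show Spec.map (CommRingCat.ofHom φ) (closedPoint A) = closedPoint sq.A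
    rw [hφ, Scheme.Hom.comp_apply, hβw]
    refine ofPt_id_injective (T := sq.ptA) ?_
    rw [← ofPt_comp, Category.comp_id, hqU, ← Points.map_ofPt, hbw]
    exact hzs
  let e : sq.DomExt := { A' := A, K' := R.left.residueField r₀, φ := φ, ψ := ψ, comm := hcomm, isLocalHom := hloc }
  let βo : e.ptA' ⟶ U := Over.homMk β (by
    show β ≫ U.hom = Spec.map (CommRingCat.ofHom φ) ≫ sq.str
    rw [hφ, Category.assoc]
    congr 1
    exact (Over.w qU).symm)
  refine ⟨e, (yon S).map βo ≫ b ≫ pullback.fst f sq.bot, ?_, ?_⟩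
  · let ro : e.ptK' ⟶ R := Over.homMk (R.left.fromSpecResidueField r₀) (by
      show R.left.fromSpecResidueField r₀ ≫ R.hom = Spec.map _ ≫ Spec.map _ ≫ sq.str
      rw [← Spec.map_comp_assoc, ← CommRingCat.ofHom_comp, hcomm, CommRingCat.ofHom_comp]
      erw [Spec.map_comp]
      rw [hψ, Category.assoc, Category.assoc]
      exact congrArg (fun t => R.left.fromSpecResidueField r₀ ≫ t) (Over.w r).symm)
    trans (yon S).map (ro ≫ r) ≫ sq.top
    · have h1 : (yon S).map (ro ≫ r) ≫ p = (yon S).map (ro ≫ q) ≫ b := by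
        rw [Functor.map_comp, Functor.map_comp, Category.assoc, Category.assoc, sR.w]
      have h2 : ro ≫ q = (Over.homMk (Spec.map (CommRingCat.ofHom (algebraMap e.A' e.K'))) rfl : e.ptK' ⟶ e.ptA') ≫ βo :=
        Over.OverMorphism.ext hβ
      conv_rhs => rw [← show p ≫ pullback.fst f sq.bot = sq.top from pullback.lift_fst _ _ _, ← Category.assoc, h1, h2]
      simp only [Functor.map_comp, Category.assoc]
    · congr 2
      exact Over.OverMorphism.ext hψ.symm
  · rw [Category.assoc, Category.assoc, pullback.condition, ← Category.assoc b, ← hqU, ← Category.assoc,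
      ← Functor.map_comp]
    congr 2
    exact Over.OverMorphism.ext hφ.symm

/-- The existence part. -/
theorem hasLiftExt_of_isUnivClosedMor (hX : IsAlgSpace X) (hY : IsAlgSpace Y) {f : X ⟶ Y}
    (hqs : IsQuasiSeparatedMor f) (hc : IsUnivClosedMor f) (sq : ValSq f) : sq.HasLiftExt := by
  refine hasLiftExt_of_compact hX hY hc sq fun U R b r q hU hb sR => ?_
  have sP := IsPullback.of_hasPullback f sq.bot
  have hP : IsAlgSpace (pullback f sq.bot) := isAlgSpace_of_isPullback sP hX (IsAlgSpace.yon_obj _) hY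
  let p : (yon S).obj sq.ptK ⟶ pullback f sq.bot := pullback.lift sq.top ((yon S).map sq.j) sq.comm
  have hp2 : p ≫ pullback.snd f sq.bot = (yon S).map sq.j := pullback.lift_snd _ _ _
  have hp : IsQuasiCompactMor p := by
    refine AlgSpFin.isQuasiCompactMor_of_comp (IsAlgSpace.yon_obj _) hP (IsAlgSpace.yon_obj _) p
      (pullback.snd f sq.bot) ?_ (repWith_diagonal_baseChange sP hqs)
    rw [hp2]
    have : IsAffine sq.ptA.left := inferInstanceAs (IsAffine (Spec (CommRingCat.of sq.A)))
    have : IsAffine sq.ptK.left := inferInstanceAs (IsAffine (Spec (CommRingCat.of sq.K)))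
    exact AlgStLib.isQuasiCompactMor_of_repWith (IsAlgSpace.yon_obj _) (IsAlgSpace.yon_obj _)
      ((repWith_yon_map_iff @QuasiCompact _).2 inferInstance)
  have hRqc : IsQuasiCompactSp ((yon S).obj R) :=
    hp (IsAlgSpace.yon_obj U) (AlgSpPts.isQuasiCompactSp_yon U inferInstance) b _ _ sR
  have := compactSpace_points_of_isQuasiCompactSp hRqc
  have hemb : IsEmbedding (Points.ofPt (𝟙 ((yon S).obj R))) :=
    (IsOpenEmbedding.of_continuous_injective_isOpenMap (Points.continuous_ofPt _) ofPt_id_injective
      (isOpenMap_ofPt_of_etale (repWith_id _ R))).isEmbedding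
  exact ⟨hemb.isCompact_iff.2 (by
    rw [Set.image_univ, isQuotientMap_ofPt_id.surjective.range_eq]
    exact isCompact_univ)⟩

/-- The existence part for decent morphisms. -/
theorem hasLiftExt_of_isDecentMor (hX : IsAlgSpace X) (hY : IsAlgSpace Y) {f : X ⟶ Y}
    (hd : IsDecentMor f) (hc : IsUnivClosedMor f) (sq : ValSq f) : sq.HasLiftExt := by
  refine hasLiftExt_of_compact hX hY hc sq fun U R b r q hU hb sR => ?_
  have sP := IsPullback.of_hasPullback f sq.bot
  have hP : IsAlgSpace (pullback f sq.bot) := isAlgSpace_of_isPullback sP hX (IsAlgSpace.yon_obj _) hY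
  have : Finite ↥sq.ptK.left := inferInstanceAs (Finite ↥(Spec (CommRingCat.of sq.K)))
  have : CompactSpace ↥U.left := inferInstance
  exact AlgSpFin.compactSpace_pullback_of_isDecent hP (hd sq.bot _ _ sP) sR

end Groth.Agent.AlgSpUnivClosed
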