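import Groth.Agent.AlgSpLib.LocP
import Groth.Agent.AlgSpLib.ChartMor

/-!
Local finiteness of type is tested over affine schemes.
-/

set_option autoImplicit false
set_option backward.isDefEq.respectTransparency.types false

universe u

open CategoryTheory CategoryTheory.Limits AlgebraicGeometry Opposite AlgSp

namespace Groth.Agent.AlgSpUnivClosed

open Groth.Agent.AlgSpLib

variable {S : Scheme.{u}}

theorem locP_lft_of_affine {X Y : Sp S} (hY : IsAlgSpace Y) {f : X ⟶ Y}
    (H : ∀ (Z : Over S), IsAffine Z.left → ∀ (g : (yon S).obj Z ⟶ Y) (P : Sp S) (fst : P ⟶ X)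
      (snd : P ⟶ (yon S).obj Z), IsPullback fst snd f g → LocP @LocallyOfFiniteType snd) :
    LocP @LocallyOfFiniteType f := by
  intro U V a b h ha hb w
  rw [IsZariskiLocalAtTarget.iff_of_iSup_eq_top (P := @LocallyOfFiniteType) _ (iSup_affineOpens_eq_top V.left)]
  intro O
  haveI : IsAffine O.1.toScheme := O.2
  let V' : Over S := Over.mk (O.1.ι ≫ V.hom)
  let ι : V' ⟶ V := Over.homMk O.1.ι rfl
  let g : (yon S).obj V' ⟶ Y := (yon S).map ι ≫ b
  have sP := IsPullback.of_hasPullback f g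
  obtain ⟨Q, p, q, sQ⟩ := exists_isPullback (hY.representable_from_yon (a ≫ f)) g
  have sQ' : IsPullback ((yon S).map p) ((yon S).map q) (a ≫ f) (𝟙 _ ≫ g) := by
    rw [Category.id_comp]; exact sQ
  have hm := exists_chart_of_isPullback sP sQ' ha (repWith_id @Etale V')
  have hq : LocallyOfFiniteType q.left :=
    H V' O.2 g _ _ _ sP _ (𝟙 _) q hm (repWith_id _ _) (sP.lift_snd _ _ _)
  let U' : Over S := Over.mk ((h.left ⁻¹ᵁ O.1).ι ≫ U.hom)
  let jU : U' ⟶ U := Over.homMk (h.left ⁻¹ᵁ O.1).ι rfl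
  let hO : U' ⟶ V' := Over.homMk (h.left ∣_ O.1) (by
    show (h.left ∣_ O.1) ≫ O.1.ι ≫ V.hom = (h.left ⁻¹ᵁ O.1).ι ≫ U.hom
    rw [morphismRestrict_ι_assoc, Over.w h])
  obtain ⟨σ, hσ₁, hσ₂⟩ := exists_lift sQ ((yon S).map jU) hO (by
    show (yon S).map jU ≫ a ≫ f = (yon S).map hO ≫ (yon S).map ι ≫ b
    rw [w, ← Category.assoc, ← Category.assoc, ← Functor.map_comp, ← Functor.map_comp]
    congr 2
    exact Over.OverMorphism.ext (morphismRestrict_ι h.left O.1).symm)
  have hp : Etale p.left := prop_snd sQ.flip (repWith_yon_comp ι (inferInstanceAs (Etale O.1.ι)) hb)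
  have e₁ : σ ≫ p = jU := (yon S).map_injective (by rw [Functor.map_comp]; exact hσ₁)
  haveI : Etale σ.left := by
    refine MorphismProperty.of_postcomp (W := @Etale) (W' := @Etale) σ.left p.left hp ?_
    rw [← Over.comp_left, e₁]
    exact inferInstanceAs (Etale (h.left ⁻¹ᵁ O.1).ι)
  haveI := hq
  have : LocallyOfFiniteType (σ.left ≫ q.left) := inferInstance
  rw [← Over.comp_left, hσ₂] at this
  exact this

end Groth.Agent.AlgSpUnivClosed
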