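import Groth.Agent.AlgSpUnivClosed.SepSquare

/-!
For representable morphisms a lift after an extension gives a lift.
-/

set_option autoImplicit false
set_option backward.isDefEq.respectTransparency.types false

universe u

open CategoryTheory CategoryTheory.Limits AlgebraicGeometry Opposite AlgSp IsLocalRing

namespace Groth.Agent.AlgSpUnivClosed

open Groth.Agent.AlgSpLib

variable {S : Scheme.{u}}

/-- The lift for a scheme. -/
theorem exists_factor_of_extension {W : Scheme.{u}} {A K A' K' : Type u} [CommRing A] [IsDomain A] [ValuationRing A]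
    [Field K] [Algebra A K] [IsFractionRing A K] [CommRing A'] [IsLocalRing A'] [Field K'] [Algebra A' K']
    (hinj : Function.Injective (algebraMap A' K')) (φ : A →+* A') [IsLocalHom φ] (ψ : K →+* K')
    (hc : (algebraMap A' K').comp φ = ψ.comp (algebraMap A K)) (p : Spec (CommRingCat.of K) ⟶ W)
    (l : Spec (CommRingCat.of A') ⟶ W)
    (hl : Spec.map (CommRingCat.ofHom (algebraMap A' K')) ≫ l = Spec.map (CommRingCat.ofHom ψ) ≫ p) :
    ∃ g : Spec (CommRingCat.of A) ⟶ W, Spec.map (CommRingCat.ofHom (algebraMap A K)) ≫ g = p := by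
  let x := l (closedPoint A')
  let y := p (closedPoint K)
  let k' : Spec (CommRingCat.of K') := closedPoint K'
  have hyx : y ⤳ x := by
    have h₁ : y = l (Spec.map (CommRingCat.ofHom (algebraMap A' K')) k') := by
      rw [← Scheme.Hom.comp_apply, hl, Scheme.Hom.comp_apply]
      exact congrArg _ (@Subsingleton.elim ↥(Spec (CommRingCat.of K)) inferInstance _ _)
    rw [h₁]
    exact (specializes_closedPoint (R := A') _).map l.continuous
  let a : W.presheaf.stalk x ⟶ CommRingCat.of K := W.presheaf.stalkSpecializes hyx ≫ Scheme.stalkClosedPointTo p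
  let b : W.presheaf.stalk x ⟶ CommRingCat.of A' := Scheme.stalkClosedPointTo l
  have hab : b ≫ CommRingCat.ofHom (algebraMap A' K') = a ≫ CommRingCat.ofHom ψ := by
    apply Spec.map_injective
    rw [← cancel_mono (W.fromSpecStalk x), Spec.map_comp, Spec.map_comp, Category.assoc, Category.assoc,
      Scheme.Spec_stalkClosedPointTo_fromSpecStalk, hl, Spec.map_comp, Category.assoc,
      Scheme.SpecMap_stalkSpecializes_fromSpecStalk, Scheme.Spec_stalkClosedPointTo_fromSpecStalk]
  have hmem : ∀ z, ∃ m : A, algebraMap A K m = a.hom z := fun z => by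
    rcases ((ValuationRing.iff_isInteger_or_isInteger A K).1 inferInstance) (a.hom z) with ⟨m, hm⟩ | ⟨m, hm⟩
    · exact ⟨m, hm⟩
    · rcases eq_or_ne (a.hom z) 0 with h0 | h0
      · exact ⟨0, by rw [map_zero, h0]⟩
      have h₁ : φ m * b.hom z = 1 := hinj (by
        have e := RingHom.congr_fun (congrArg CommRingCat.Hom.hom hab) z
        rw [CommRingCat.hom_comp, CommRingCat.hom_comp, RingHom.comp_apply, RingHom.comp_apply] at e
        rw [map_mul, map_one, show algebraMap A' K' (φ m) = ψ (algebraMap A K m) from RingHom.congr_fun hc m]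
        refine (congrArg (ψ (algebraMap A K m) * ·) e).trans ?_
        show ψ (algebraMap A K m) * ψ (a.hom z) = 1
        rw [← map_mul, hm, inv_mul_cancel₀ h0, map_one])
      obtain ⟨v, hv⟩ := (isUnit_of_map_unit φ m (IsUnit.of_mul_eq_one _ h₁)).exists_right_inv
      refine ⟨v, ?_⟩
      have e := congrArg (algebraMap A K) hv
      rw [map_mul, map_one, hm] at e
      calc algebraMap A K v = a.hom z * ((a.hom z)⁻¹ * algebraMap A K v) := by
            rw [← mul_assoc, mul_inv_cancel₀ h0, one_mul]
        _ = a.hom z := by rw [e, mul_one]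
  choose a₀ ha₀ using hmem
  have hAK : Function.Injective (algebraMap A K) := IsFractionRing.injective A K
  let a' : W.presheaf.stalk x →+* A :=
    { toFun := a₀
      map_one' := hAK (by rw [ha₀, map_one, map_one])
      map_zero' := hAK (by rw [ha₀, map_zero, map_zero])
      map_mul' := fun u v => hAK (by rw [map_mul, ha₀, ha₀, ha₀, map_mul])
      map_add' := fun u v => hAK (by rw [map_add, ha₀, ha₀, ha₀, map_add]) }
  refine ⟨Spec.map (CommRingCat.ofHom a') ≫ W.fromSpecStalk x, ?_⟩
  rw [← Spec.map_comp_assoc, show CommRingCat.ofHom a' ≫ CommRingCat.ofHom (algebraMap A K) = a from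
    CommRingCat.hom_ext (RingHom.ext ha₀), Spec.map_comp, Category.assoc,
    Scheme.SpecMap_stalkSpecializes_fromSpecStalk, Scheme.Spec_stalkClosedPointTo_fromSpecStalk]

theorem hasLift_of_representable {X Y : Sp S} {f : X ⟶ Y} (hf : Representable f) (sq : ValSq f) (e : sq.DomExt)
    (he : e.HasLift) : sq.HasLift := by
  obtain ⟨l, hl₁, hl₂⟩ := he
  obtain ⟨W, snd, fst, sW⟩ := hf sq.bot
  let φo : e.ptA' ⟶ sq.ptA := Over.homMk (Spec.map (CommRingCat.ofHom e.φ)) rfl
  let jo : e.ptK' ⟶ e.ptA' := Over.homMk (Spec.map (CommRingCat.ofHom (algebraMap e.A' e.K'))) rfl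
  let ψo : e.ptK' ⟶ sq.ptK := Over.homMk (Spec.map (CommRingCat.ofHom e.ψ)) (by
    change Spec.map _ ≫ Spec.map _ ≫ _ = Spec.map _ ≫ Spec.map _ ≫ _
    rw [← Spec.map_comp_assoc, ← Spec.map_comp_assoc, ← CommRingCat.ofHom_comp,
      ← CommRingCat.ofHom_comp, e.comm])
  have hj : jo ≫ φo = ψo ≫ sq.j := by
    refine Over.OverMorphism.ext ?_
    show Spec.map _ ≫ Spec.map _ = Spec.map _ ≫ Spec.map _
    rw [← Spec.map_comp, ← Spec.map_comp, ← CommRingCat.ofHom_comp, ← CommRingCat.ofHom_comp, e.comm]
  obtain ⟨p, hp₁, hp₂⟩ := exists_lift sW sq.top sq.j sq.comm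
  obtain ⟨lW, hlW₁, hlW₂⟩ := exists_lift sW l φo hl₂
  have hjl : jo ≫ lW = ψo ≫ p := by
    refine (yon S).map_injective (sW.hom_ext ?_ ?_)
    · rw [Functor.map_comp, Functor.map_comp, Category.assoc, Category.assoc, hlW₁, hp₁]
      exact hl₁
    · rw [← Functor.map_comp, ← Functor.map_comp, Category.assoc, Category.assoc, hlW₂, hp₂, hj]
  haveI := e.isLocalHom
  obtain ⟨g, hg⟩ := exists_factor_of_extension (W := W.left) (A := sq.A) (K := sq.K)
    (IsFractionRing.injective e.A' e.K') e.φ e.ψ e.comm p.left lW.left (congrArg (fun t => t.left) hjl)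
  have hgs : g ≫ snd.left = 𝟙 _ := by
    let θ : sq.A →+* sq.A := (Spec.preimage (g ≫ snd.left : Spec (CommRingCat.of sq.A) ⟶ Spec (CommRingCat.of sq.A))).hom
    have hθ : Spec.map (CommRingCat.ofHom θ) = g ≫ snd.left := Spec.map_preimage _
    have : θ = RingHom.id sq.A := by
      have h : CommRingCat.ofHom θ ≫ CommRingCat.ofHom (algebraMap sq.A sq.K) =
          CommRingCat.ofHom (algebraMap sq.A sq.K) := by
        apply Spec.map_injective
        rw [Spec.map_comp, hθ]
        refine (Category.assoc _ _ _).symm.trans ((congrArg (· ≫ snd.left) hg).trans ?_)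
        exact congrArg (fun t => t.left) hp₂
      exact RingHom.ext fun m => IsFractionRing.injective sq.A sq.K
        (RingHom.congr_fun (congrArg CommRingCat.Hom.hom h) m)
    rw [← hθ, this]
    exact Spec.map_id _
  let go : sq.ptA ⟶ W := Over.homMk g (by
    show g ≫ W.hom = sq.str
    rw [← Over.w snd, ← Category.assoc, hgs]
    exact Category.id_comp _)
  refine ⟨(yon S).map go ≫ fst, ?_, ?_⟩
  · rw [← Category.assoc, ← Functor.map_comp, show sq.j ≫ go = p from Over.OverMorphism.ext hg, hp₁]
  · rw [Category.assoc, sW.w, ← Category.assoc, ← Functor.map_comp,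
      show go ≫ snd = 𝟙 _ from Over.OverMorphism.ext hgs, CategoryTheory.Functor.map_id, Category.id_comp]

end Groth.Agent.AlgSpUnivClosed
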