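import Groth.Agent.AlgSpLib.FibreProduct
import Groth.Agent.AlgSpUnivClosed.Affine

/-!
Morphisms into separated algebraic spaces: equality on a schematically dense piece, and descent.
-/

set_option autoImplicit false
set_option backward.isDefEq.respectTransparency.types false

universe u

open CategoryTheory CategoryTheory.Limits AlgebraicGeometry Opposite AlgSp Topology

namespace Groth.Agent.AlgSpUnivClosed

open Groth.Agent.AlgSpLib

variable {S : Scheme.{u}}

/-- Two maps into a separated space over a base agree if they agree on a schematically dense piece. -/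
theorem eq_of_appTop_injective {P Z : Sp S} {π : P ⟶ Z} (hπ : IsSeparatedMor π) {T T' : Over S} [IsAffine T.left]
    (k : T' ⟶ T) (hk : Function.Injective k.left.appTop) {u v : (yon S).obj T ⟶ P} (w : u ≫ π = v ≫ π)
    (h : (yon S).map k ≫ u = (yon S).map k ≫ v) : u = v := by
  obtain ⟨E, i, fst, s⟩ := hπ.1 (pullback.lift u v w)
  have : IsClosedImmersion i.left := hπ.2 _ _ _ s
  obtain ⟨k', hk', hk''⟩ := exists_lift s ((yon S).map k ≫ u) k (by
    apply pullback.hom_ext
    · rw [Category.assoc, Category.assoc, pullback.diagonal_fst, Category.comp_id, Category.assoc, pullback.lift_fst]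
    · rw [Category.assoc, Category.assoc, pullback.diagonal_snd, Category.comp_id, Category.assoc, pullback.lift_snd,
        ← h])
  have hinj : Function.Injective i.left.appTop := by
    refine Function.Injective.of_comp (f := k'.left.appTop) ?_
    have e : ⇑k'.left.appTop ∘ ⇑i.left.appTop = ⇑k.left.appTop := by
      rw [← hk'', Over.comp_left, Scheme.Hom.comp_appTop]
      rfl
    rw [e]
    exact hk
  have : IsIso i.left := IsClosedImmersion.isIso_of_injective_of_isAffine hinj
  have : IsIso ((Over.forget S).map i) := ‹IsIso i.left›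
  have : IsIso i := isIso_of_reflects_iso i (Over.forget S)
  rw [← cancel_epi ((yon S).map i)]
  have h₁ := congrArg (· ≫ pullback.fst π π) s.w
  have h₂ := congrArg (· ≫ pullback.snd π π) s.w
  simp only [Category.assoc, pullback.diagonal_fst, pullback.diagonal_snd, Category.comp_id, pullback.lift_fst,
    pullback.lift_snd] at h₁ h₂
  rw [← h₁, ← h₂]

/-- Morphisms descend along a faithfully flat finitely presented map. -/
theorem exists_descend_fppf {X : Sp S} {W Z : Over S} (c : W ⟶ Z) [Flat c.left] [LocallyOfFinitePresentation c.left]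
    [Surjective c.left] (t : (yon S).obj W ⟶ X)
    (ht : ∀ (U : Over S) (u v : U ⟶ W), u ≫ c = v ≫ c → (yon S).map u ≫ t = (yon S).map v ≫ t) :
    ∃ a : (yon S).obj Z ⟶ X, (yon S).map c ≫ a = t := by
  have hmem : Sieve.ofArrows (fun _ : PUnit.{u + 1} => W) (fun _ => c) ∈ J S Z := by
    rw [GrothendieckTopology.mem_over_iff, Sieve.overEquiv_ofArrows]
    exact Precoverage.generate_mem_toGrothendieck ((Scheme.ofArrows_mem_precoverage_iff _).2
      ⟨fun z => ⟨⟨⟩, c.left.surjective z⟩, fun _ => ⟨inferInstanceAs (Flat c.left),
        inferInstanceAs (LocallyOfFinitePresentation c.left)⟩⟩)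
  have hsheaf : Presieve.IsSheafFor X.obj (Presieve.ofArrows (fun _ : PUnit.{u + 1} => W) fun _ => c) := by
    rw [Presieve.isSheafFor_iff_generate]
    exact (isSheaf_iff_isSheaf_of_type _ _).1 X.property _ hmem
  obtain ⟨x, hx, -⟩ := (Presieve.isSheafFor_arrows_iff _ _).1 hsheaf
    (fun _ => (J S).uliftYonedaEquiv.{u + 1} t) fun i j U u v e => by
      rw [GrothendieckTopology.uliftYonedaEquiv_naturality, GrothendieckTopology.uliftYonedaEquiv_naturality,
        ht U u v e]
  refine ⟨(J S).uliftYonedaEquiv.{u + 1}.symm x, ?_⟩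
  apply (J S).uliftYonedaEquiv.{u + 1}.injective
  rw [← GrothendieckTopology.uliftYonedaEquiv_naturality, Equiv.apply_symm_apply]
  exact hx ⟨⟩

/-- Injective ring maps give schematically dense maps of spectra. -/
theorem appTop_injective_algMap {R : Type u} [CommRing R] (r : Spec (CommRingCat.of R) ⟶ S) {D D' : Type u}
    [CommRing D] [Algebra R D] [CommRing D'] [Algebra R D'] (θ : D →ₐ[R] D') (hθ : Function.Injective θ) :
    Function.Injective (algMap r D θ).left.appTop := by
  show Function.Injective (Spec.map (CommRingCat.ofHom θ.toRingHom)).appTop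
  have e := Scheme.ΓSpecIso_naturality (CommRingCat.ofHom θ.toRingHom)
  intro a b hab
  have h := congrArg (Scheme.ΓSpecIso _).hom hab
  rw [← ConcreteCategory.comp_apply, ← ConcreteCategory.comp_apply, e] at h
  exact (ConcreteCategory.bijective_of_isIso (Scheme.ΓSpecIso (CommRingCat.of D)).hom).1 (hθ h)

end Groth.Agent.AlgSpUnivClosed
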