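import Groth.Agent.AlgSpUnivClosed.SepSquare
import Groth.Agent.AlgSpUnivClosed.Existence
import Groth.Agent.Weighting.Geom

/-!
Finite separable extensions suffice in the existence part of the valuative criterion.
-/

set_option autoImplicit false
set_option backward.isDefEq.respectTransparency.types false

universe u

open CategoryTheory CategoryTheory.Limits AlgebraicGeometry Opposite AlgSp Topology IsLocalRing

namespace Groth.Agent.AlgSpUnivClosed

open Groth.Agent.AlgSpLib

/-- A point of an etale scheme over a field. -/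
theorem finite_separable_residueField {K : Type u} [Field K] {R : Scheme.{u}} (g : R ⟶ Spec (CommRingCat.of K))
    [Etale g] (r : R) (ψ : K →+* R.residueField r)
    (hψ : Spec.map (CommRingCat.ofHom ψ) = R.fromSpecResidueField r ≫ g) :
    letI := ψ.toAlgebra
    Module.Finite K (R.residueField r) ∧ Algebra.IsSeparable K (R.residueField r) := by
  let y : Spec (CommRingCat.of K) := g r
  let χ : CommRingCat.of K ⟶ (Spec (CommRingCat.of K)).residueField y :=
    CommRingCat.ofHom (algebraMap K y.asIdeal.ResidueField) ≫ (Scheme.Spec.residueFieldIso (CommRingCat.of K) y).inv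
  have hχ : Spec.map χ = (Spec (CommRingCat.of K)).fromSpecResidueField y := by
    rw [← Scheme.Spec.map_residueFieldIso_inv_eq_fromSpecResidueField, ← Spec.map_comp]
  have hψ' : CommRingCat.ofHom ψ = χ ≫ g.residueFieldMap r := by
    apply Spec.map_injective
    rw [hψ, Spec.map_comp, hχ]
    exact (g.SpecMap_residueFieldMap_fromSpecResidueField r).symm
  haveI : y.asIdeal.IsMaximal := by
    haveI := y.2
    rw [Ideal.eq_bot_of_prime (I := y.asIdeal)]
    exact Ideal.bot_isMaximal
  have hsurj : Function.Surjective χ.hom :=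
    ((Scheme.Spec.residueFieldIso (CommRingCat.of K) y).symm.commRingCatIsoToRingEquiv.surjective).comp
      y.asIdeal.algebraMap_residueField_surjective
  letI := ψ.toAlgebra
  letI : Algebra K ((Spec (CommRingCat.of K)).residueField y) := χ.hom.toAlgebra
  letI : Algebra ((Spec (CommRingCat.of K)).residueField y) (R.residueField r) := (g.residueFieldMap r).hom.toAlgebra
  haveI : IsScalarTower K ((Spec (CommRingCat.of K)).residueField y) (R.residueField r) :=
    IsScalarTower.of_algebraMap_eq' (congrArg CommRingCat.Hom.hom hψ')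
  haveI : Module.Finite K ((Spec (CommRingCat.of K)).residueField y) :=
    Module.Finite.of_surjective (Algebra.linearMap _ _) hsurj
  haveI : Module.Finite ((Spec (CommRingCat.of K)).residueField y) (R.residueField r) :=
    RingHom.finite_algebraMap.1 (Groth.Agent.Weighting.residueFieldMap_finite g r)
  haveI : Algebra.IsSeparable K ((Spec (CommRingCat.of K)).residueField y) := ⟨fun x => by
    obtain ⟨k, rfl⟩ := hsurj x
    exact isSeparable_algebraMap k⟩
  exact ⟨Module.Finite.trans ((Spec (CommRingCat.of K)).residueField y) _,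
    Algebra.IsSeparable.trans K ((Spec (CommRingCat.of K)).residueField y) _⟩

variable {S : Scheme.{u}}

/-- A lift after some extension gives one after a finite separable extension. -/
theorem hasLift_finite_separable {X Y : Sp S} (hX : IsAlgSpace X) (hY : IsAlgSpace Y) {f : X ⟶ Y} (sq : ValSq f)
    (h : sq.HasLiftExt) :
    ∃ e : sq.DomExt, (letI := e.ψ.toAlgebra; Module.Finite sq.K e.K' ∧ Algebra.IsSeparable sq.K e.K') ∧
      e.HasLift := by
  obtain ⟨e₀, l, hl₁, hl₂⟩ := h
  have sP := IsPullback.of_hasPullback f sq.bot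
  have hP : IsAlgSpace (pullback f sq.bot) := isAlgSpace_of_isPullback sP hX (IsAlgSpace.yon_obj _) hY
  let p : (yon S).obj sq.ptK ⟶ pullback f sq.bot := pullback.lift sq.top ((yon S).map sq.j) sq.comm
  have hp2 : p ≫ pullback.snd f sq.bot = (yon S).map sq.j := pullback.lift_snd _ _ _
  let φo : e₀.ptA' ⟶ sq.ptA := Over.homMk (Spec.map (CommRingCat.ofHom e₀.φ)) rfl
  let jo : e₀.ptK' ⟶ e₀.ptA' := Over.homMk (Spec.map (CommRingCat.ofHom (algebraMap e₀.A' e₀.K'))) rfl
  let ψo : e₀.ptK' ⟶ sq.ptK := Over.homMk (Spec.map (CommRingCat.ofHom e₀.ψ)) (by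
    change Spec.map _ ≫ Spec.map _ ≫ _ = Spec.map _ ≫ Spec.map _ ≫ _
    rw [← Spec.map_comp_assoc, ← Spec.map_comp_assoc, ← CommRingCat.ofHom_comp,
      ← CommRingCat.ofHom_comp, e₀.comm])
  let l' : (yon S).obj e₀.ptA' ⟶ pullback f sq.bot := pullback.lift l ((yon S).map φo) hl₂
  have hl'p : (yon S).map jo ≫ l' = (yon S).map ψo ≫ p := by
    apply pullback.hom_ext
    · rw [Category.assoc, Category.assoc, pullback.lift_fst, pullback.lift_fst]
      exact hl₁
    · rw [Category.assoc, Category.assoc, pullback.lift_snd, hp2, ← Functor.map_comp, ← Functor.map_comp]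
      congr 1
      refine Over.OverMorphism.ext ?_
      show Spec.map _ ≫ Spec.map _ = Spec.map _ ≫ Spec.map _
      rw [← Spec.map_comp, ← Spec.map_comp, ← CommRingCat.ofHom_comp, ← CommRingCat.ofHom_comp, e₀.comm]
  obtain ⟨W, b, hb, hbs⟩ := hP.atlas
  let κ' : e₀.ptA'.left := closedPoint e₀.A'
  obtain ⟨w, hw⟩ := surjective_ofPt hbs (Points.ofPt l' κ')
  obtain ⟨R, r, q, sR⟩ := exists_isPullback (hP.representable_from_yon p) b
  have hr : Etale r.left := prop_snd sR.flip hb
  -- a point of the fibre over the fraction field specialising to the chosen one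
  obtain ⟨W', w₁, w₂, sW⟩ := exists_isPullback hb.1 l'
  have hw₂ : Etale w₂.left := prop_snd sW hb
  obtain ⟨ω, hω₁, hω₂⟩ := (ofPt_eq_iff sW w κ').1 hw
  let k' : e₀.ptK'.left := closedPoint e₀.K'
  haveI : Flat w₂.left := by haveI := hw₂; infer_instance
  obtain ⟨ω', hspec, hω'⟩ := Flat.generalizingMap w₂.left (a := ω) (b := jo.left k') (by
    rw [hω₂]
    exact specializes_closedPoint _)
  have hpt : Points.ofPt p (ψo.left k') = Points.ofPt b (w₁.left ω') := by
    rw [← ofPt_comp, ← hl'p, ← ofPt_comp, sW.w, ofPt_comp, ofPt_comp, hω']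
  obtain ⟨r₀, hr₀, hqr₀⟩ := (ofPt_eq_iff sR (ψo.left k') (w₁.left ω')).1 hpt
  have hspec' : q.left r₀ ⤳ w := by
    rw [hqr₀, ← hω₁]
    exact hspec.map w₁.left.continuous
  obtain ⟨A, _, _, _, _, _, β, hβ, hβw⟩ := exists_valuation_over q.left r₀ hspec'
  obtain ⟨qW, hqW⟩ := (yon S).map_surjective (b ≫ pullback.snd f sq.bot)
  let φ : sq.A →+* A := (Spec.preimage (β ≫ qW.left : Spec (CommRingCat.of A) ⟶ Spec (CommRingCat.of sq.A))).hom
  let ψ : sq.K →+* R.left.residueField r₀ :=
    (Spec.preimage (R.left.fromSpecResidueField r₀ ≫ r.left : Spec (R.left.residueField r₀) ⟶ Spec (CommRingCat.of sq.K))).hom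
  have hφ : Spec.map (CommRingCat.ofHom φ) = β ≫ qW.left := Spec.map_preimage _
  have hψ : Spec.map (CommRingCat.ofHom ψ) = R.left.fromSpecResidueField r₀ ≫ r.left := Spec.map_preimage _
  have hsR : q ≫ qW = r ≫ sq.j := (yon S).map_injective (by
    rw [Functor.map_comp, Functor.map_comp, hqW, ← Category.assoc, ← sR.w, Category.assoc, hp2])
  have hcomm : (algebraMap A (R.left.residueField r₀)).comp φ = ψ.comp (algebraMap sq.A sq.K) := by
    have : CommRingCat.ofHom ((algebraMap A (R.left.residueField r₀)).comp φ) =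
        CommRingCat.ofHom (ψ.comp (algebraMap sq.A sq.K)) := by
      apply Spec.map_injective
      rw [CommRingCat.ofHom_comp, CommRingCat.ofHom_comp]
      erw [Spec.map_comp, Spec.map_comp]
      rw [hφ, hψ, ← Category.assoc, ← hβ, Category.assoc, ← Over.comp_left, hsR, Category.assoc]
      rfl
    exact congrArg CommRingCat.Hom.hom this
  have hloc : IsLocalHom φ := by
    rw [isLocalHom_iff_comap_closedPoint]
    show Spec.map (CommRingCat.ofHom φ) (closedPoint A) = closedPoint sq.A
    rw [hφ, Scheme.Hom.comp_apply, hβw]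
    refine ofPt_id_injective (T := sq.ptA) ?_
    have hcl : φo.left κ' = (closedPoint sq.A : sq.ptA.left) := by
      haveI := e₀.isLocalHom
      exact IsLocalRing.comap_closedPoint (S := e₀.A') e₀.φ
    rw [← ofPt_comp, Category.comp_id, hqW, ← Points.map_ofPt, hw, Points.map_ofPt,
      show l' ≫ pullback.snd f sq.bot = (yon S).map φo from pullback.lift_snd _ _ _,
      ← Category.comp_id ((yon S).map φo), ofPt_comp, hcl]
  let e : sq.DomExt := { A' := A, K' := R.left.residueField r₀, φ := φ, ψ := ψ, comm := hcomm, isLocalHom := hloc }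
  refine ⟨e, ?_, ?_⟩
  · haveI := hr
    exact finite_separable_residueField (K := sq.K) r.left r₀ ψ hψ
  let βo : e.ptA' ⟶ W := Over.homMk β (by
    show β ≫ W.hom = Spec.map (CommRingCat.ofHom φ) ≫ sq.str
    rw [hφ, Category.assoc]
    congr 1
    exact (Over.w qW).symm)
  refine ⟨(yon S).map βo ≫ b ≫ pullback.fst f sq.bot, ?_, ?_⟩
  · let ro : e.ptK' ⟶ R := Over.homMk (R.left.fromSpecResidueField r₀) (by
      show R.left.fromSpecResidueField r₀ ≫ R.hom = Spec.map _ ≫ Spec.map _ ≫ sq.str
      rw [← Spec.map_comp_assoc, ← CommRingCat.ofHom_comp, hcomm, CommRingCat.ofHom_comp]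
      erw [Spec.map_comp]
      rw [hψ, Category.assoc, Category.assoc]
      exact congrArg (fun t => R.left.fromSpecResidueField r₀ ≫ t) (Over.w r).symm)
    trans (yon S).map (ro ≫ r) ≫ sq.top
    · have h1 : (yon S).map (ro ≫ r) ≫ p = (yon S).map (ro ≫ q) ≫ b := by
        rw [Functor.map_comp, Functor.map_comp, Category.assoc, Category.assoc, sR.w]
      have h2 : ro ≫ q = (Over.homMk (Spec.map (CommRingCat.ofHom (algebraMap e.A' e.K'))) rfl : e.ptK' ⟶ e.ptA') ≫ βo :=
        Over.OverMorphism.ext hβ
      conv_rhs => rw [← show p ≫ pullback.fst f sq.bot = sq.top from pullback.lift_fst _ _ _, ← Category.assoc, h1, h2]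
      simp only [Functor.map_comp, Category.assoc]
    · congr 2
      exact Over.OverMorphism.ext hψ.symm
  · rw [Category.assoc, Category.assoc, pullback.condition, ← Category.assoc b, ← hqW, ← Category.assoc,
      ← Functor.map_comp]
    congr 2
    exact Over.OverMorphism.ext hφ.symm

end Groth.Agent.AlgSpUnivClosed
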