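import Groth.Agent.AlgSpLib.LocPCover
import Groth.Agent.AlgSpLib.FpqcLocalUniv

/-!
Closedness of the projection from a fibre product of algebraic spaces to a scheme.
-/

set_option autoImplicit false
set_option backward.isDefEq.respectTransparency.types false

universe u

open CategoryTheory CategoryTheory.Limits AlgebraicGeometry Opposite AlgSp Topology

namespace Groth.Agent.AlgSpUnivClosed

open Groth.Agent.AlgSpLib

variable {S : Scheme.{u}} {X Y : Sp S} {T T' : Over S}

/-- The image in the scheme `T` of a set of points of a fibre product. -/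
def img (f : X ⟶ Y) (g : (yon S).obj T ⟶ Y) (C : Set (Points (pullback f g))) : Set T.left :=
  Points.ofPt (𝟙 ((yon S).obj T)) ⁻¹' (Points.map (pullback.snd f g) '' C)

/-- The projection to the scheme `T` is closed. -/
def SndClosed (f : X ⟶ Y) (g : (yon S).obj T ⟶ Y) : Prop :=
  ∀ C : Set (Points (pullback f g)), IsClosed C → IsClosed (img f g C)

theorem ofPt_id_injective : Function.Injective (Points.ofPt (𝟙 ((yon S).obj T))) :=
  (Points.schemeEquiv T).injective

theorem isQuotientMap_ofPt_id : IsQuotientMap (Points.ofPt (𝟙 ((yon S).obj T))) :=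
  isQuotientMap_ofPt (repWith_id _ T) (repWith_id _ T)

theorem sndClosed_iff {f : X ⟶ Y} {g : (yon S).obj T ⟶ Y} :
    SndClosed f g ↔ IsClosedMap (Points.map (pullback.snd f g)) :=
  forall_congr' fun _ => imp_congr_right fun _ => isQuotientMap_ofPt_id.isClosed_preimage

theorem sndClosed_of_isPullback {f : X ⟶ Y} {g : (yon S).obj T ⟶ Y} {P : Sp S} {fst : P ⟶ X}
    {snd : P ⟶ (yon S).obj T} (sq : IsPullback fst snd f g) (h : IsClosedMap (Points.map snd)) : SndClosed f g := by
  rw [sndClosed_iff]
  have hh : pullback.snd f g = sq.isoPullback.inv ≫ snd := by simp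
  intro C hC
  have e : Points.map (pullback.snd f g) '' C = Points.map snd '' (Points.map sq.isoPullback.hom ⁻¹' C) := by
    ext y
    constructor
    · rintro ⟨c, hc, rfl⟩
      refine ⟨Points.map sq.isoPullback.inv c, ?_, by rw [← Points.map_comp, ← hh]⟩
      rw [Set.mem_preimage, ← Points.map_comp, Iso.inv_hom_id, Points.map_id]
      exact hc
    · rintro ⟨c, hc, rfl⟩
      refine ⟨_, hc, ?_⟩
      rw [← Points.map_comp]
      simp
  rw [e]
  exact h _ (hC.preimage (Points.continuous_map _))

/-- The map induced on fibre products. -/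
noncomputable def pmap (f : X ⟶ Y) (g : (yon S).obj T ⟶ Y) (g' : (yon S).obj T' ⟶ Y) (k : T' ⟶ T)
    (e : (yon S).map k ≫ g = g') : pullback f g' ⟶ pullback f g :=
  pullback.lift (pullback.fst f g') (pullback.snd f g' ≫ (yon S).map k)
    (by rw [Category.assoc, e, pullback.condition])

theorem isPullback_pmap (f : X ⟶ Y) (g : (yon S).obj T ⟶ Y) (g' : (yon S).obj T' ⟶ Y) (k : T' ⟶ T)
    (e : (yon S).map k ≫ g = g') :
    IsPullback (pmap f g g' k e) (pullback.snd f g') (pullback.snd f g) ((yon S).map k) := by
  refine IsPullback.of_right ?_ (pullback.lift_snd _ _ _) (IsPullback.of_hasPullback f g)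
  rw [pmap, pullback.lift_fst, e]
  exact IsPullback.of_hasPullback f g'

theorem mem_img_pmap {f : X ⟶ Y} {g : (yon S).obj T ⟶ Y} {g' : (yon S).obj T' ⟶ Y} {k : T' ⟶ T}
    (e : (yon S).map k ≫ g = g') (C : Set (Points (pullback f g))) :
    img f g' (Points.map (pmap f g g' k e) ⁻¹' C) = k.left ⁻¹' img f g C := by
  ext t
  constructor
  · rintro ⟨c, hc, hc'⟩
    refine ⟨_, hc, ?_⟩
    rw [← Points.map_comp, (isPullback_pmap f g g' k e).w, Points.map_comp, hc', Points.map_ofPt, Category.id_comp,
      ← ofPt_comp, Category.comp_id]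
  · rintro ⟨c, hc, hc'⟩
    obtain ⟨z, hz, hz'⟩ := exists_point_of_isPullback (isPullback_pmap f g g' k e) c (Points.ofPt (𝟙 _) t)
      (by rw [hc', Points.map_ofPt, Category.id_comp, ← ofPt_comp, Category.comp_id])
    exact ⟨z, by rw [Set.mem_preimage, hz]; exact hc, hz'⟩

/-- Closedness passes to the base change along a preimmersion of schemes. -/
theorem sndClosed_of_preimmersion (hX : IsAlgSpace X) (hY : IsAlgSpace Y) {f : X ⟶ Y}
    {g : (yon S).obj T ⟶ Y} {g' : (yon S).obj T' ⟶ Y} (k : T' ⟶ T) [IsPreimmersion k.left]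
    (e : (yon S).map k ≫ g = g') (h : SndClosed f g) : SndClosed f g' := by
  intro C hC
  obtain ⟨W, a, ha, has⟩ :=
    (isAlgSpace_of_isPullback (IsPullback.of_hasPullback f g) hX (IsAlgSpace.yon_obj T) hY).atlas
  obtain ⟨q, hq⟩ := (yon S).map_surjective (a ≫ pullback.snd f g)
  let W' : Over S := Over.mk (pullback.fst q.left k.left ≫ W.hom)
  let kW : W' ⟶ W := Over.homMk (pullback.fst q.left k.left) rfl
  let qW : W' ⟶ T' := Over.homMk (pullback.snd q.left k.left) (by
    show pullback.snd q.left k.left ≫ T'.hom = pullback.fst q.left k.left ≫ W.hom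
    rw [← Over.w k, ← pullback.condition_assoc, Over.w q])
  have sW : IsPullback kW qW q k :=
    IsPullback.of_map (Over.forget S) (Over.OverMorphism.ext pullback.condition) (IsPullback.of_hasPullback _ _)
  have : IsPreimmersion kW.left := inferInstanceAs (IsPreimmersion (pullback.fst q.left k.left))
  let a' := (isPullback_pmap f g g' k e).lift ((yon S).map kW ≫ a) ((yon S).map qW) (by
    rw [Category.assoc, ← hq, ← Functor.map_comp, ← Functor.map_comp, sW.w])
  have sa : IsPullback ((yon S).map kW) a' a (pmap f g g' k e) := by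
    refine IsPullback.of_bot ?_ ((isPullback_pmap f g g' k e).lift_fst _ _ _).symm (isPullback_pmap f g g' k e)
    rw [(isPullback_pmap f g g' k e).lift_snd, ← hq]
    exact yon_isPullback sW
  have ha's : RepWith @Surjective a' := repWith_baseChange sa has
  let C₁ : Set (Points (pullback f g)) := closure (Points.map (pmap f g g' k e) '' C)
  have key : Points.map (pmap f g g' k e) ⁻¹' C₁ = C := by
    refine Set.Subset.antisymm (fun z hz => ?_) fun z hz => subset_closure ⟨z, hz, rfl⟩
    obtain ⟨w, rfl⟩ := surjective_ofPt ha's z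
    rw [Set.mem_preimage, Points.map_ofPt, ← sa.w, ofPt_comp] at hz
    have hz' : kW.left w ∈ closure (Points.ofPt a ⁻¹' (Points.map (pmap f g g' k e) '' C)) := by
      rw [← (isOpenMap_ofPt_of_etale ha).preimage_closure_eq_closure_preimage (Points.continuous_ofPt a)]
      exact hz
    have hsub : Points.ofPt a ⁻¹' (Points.map (pmap f g g' k e) '' C) ⊆ kW.left '' (Points.ofPt a' ⁻¹' C) := by
      rintro x ⟨c, hc, hc'⟩
      obtain ⟨z', hz₁, hz₂⟩ := exists_point_of_isPullback sa (Points.ofPt (𝟙 _) x) c
        (by rw [Points.map_ofPt, Category.id_comp, hc'])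
      obtain ⟨w', rfl⟩ := exists_ofScheme z'
      rw [Points.map_ofPt, Category.id_comp] at hz₂
      refine ⟨w', by rw [Set.mem_preimage, hz₂]; exact hc, ofPt_id_injective ?_⟩
      rw [← ofPt_comp, Category.comp_id, ← hz₁, Points.map_ofPt, Category.id_comp]
    have hcl := closure_mono hsub hz'
    rw [← Set.mem_preimage, ← kW.left.isEmbedding.isInducing.closure_eq_preimage_closure_image,
      (hC.preimage (Points.continuous_ofPt a')).closure_eq] at hcl
    exact hcl
  rw [← key, mem_img_pmap e C₁]
  exact (h C₁ isClosed_closure).preimage k.left.continuous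

end Groth.Agent.AlgSpUnivClosed
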